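import Cfsg.Agent.H630.NHBabyD

/-!
# Row B of Ore: the elements of order three of type 3A (helper844)

`FiType t₀ x` : `x` in the Monster, `C(x) / ⟨x⟩ ≅ Fi24'`, the image of `t₀` a product of two commuting transpositions.
-/

set_option autoImplicit false

namespace Cfsg.Agent.H844.Ore

open Cfsg Cfsg.Agent Cfsg.Agent.LThreeMB

/-- `C(x) / ⟨x⟩ ≅ Fi24'`, the image of `t₀` is a product of two commuting transpositions. -/
def FiType {G : Type*} [Group G] (t₀ x : G) : Prop :=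
  ∃ hx : t₀ * x = x * t₀, ∃ (f : XX x ≃* Spor.Fi24') (a b : Spor.Fi24) (_ : R08.TetFi24A.At a b),
    ((f (mk x hx) : Spor.Fi24') : Spor.Fi24) = a * b

open H630.Baby Subgroup in
/-- `s` in the Baby Monster is the image, for some cover `C(t₀) / ⟨t₀⟩ ≅ B`, of `x` with `FiType t₀ x`. -/
def FiB {L : Type*} [Group L] (s : L) : Prop :=
  ∃ (t₀ : Mon) (_ : LThreeB.Row.TA t₀) (_ : Nat.card ↥(center ↥(centralizer ({t₀} : Set Mon))) = 2)
    (e : ↥(centralizer ({t₀} : Set Mon)) ⧸ center ↥(centralizer ({t₀} : Set Mon)) ≃* L)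
    (x : ↥(centralizer ({t₀} : Set Mon))), orderOf x = 3 ∧ e (QuotientGroup.mk x) = s ∧ FiType t₀ (x : Mon)

open H630.Baby Subgroup in
/-- `u` in the Baby Monster is an involution of type 2B: for some cover `C(t₀) / ⟨t₀⟩ ≅ B` it is the image of an involution
`w` conjugate to `z` in the Monster with `w t₀` of class 2A. -/
def TwoB {L : Type*} [Group L] (u : L) : Prop :=
  ∃ (t₀ : Mon) (_ : LThreeB.Row.TA t₀) (_ : Nat.card ↥(center ↥(centralizer ({t₀} : Set Mon))) = 2)
    (e : ↥(centralizer ({t₀} : Set Mon)) ⧸ center ↥(centralizer ({t₀} : Set Mon)) ≃* L)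
    (w : ↥(centralizer ({t₀} : Set Mon))), (w : Mon) * w = 1 ∧ IsConj MonsterX.KDone.K.z (w : Mon) ∧
      LThreeB.Row.TA ((w : Mon) * t₀) ∧ e (QuotientGroup.mk w) = u

end Cfsg.Agent.H844.Ore
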