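import Cfsg.Agent.H844.Ore.BThree
import Cfsg.Agent.H480.Ore.BFiType
import Cfsg.Agent.H903.Ore.Baby
import Cfsg.Agent.H58.Ore.BThree

/-!
# Row B of Ore: assembly (helper844)

`frame` : every element of the Baby Monster is a commutator, given `Fi22`, `Fi23`, `OreF23` (`Co2`), and
* `hT` : `|C(g)| ≤ 7700000000` implies that `g` is a commutator,
* `h5` : `|C(y)| ≤ 7700000000` for `y` of prime order at least five.
-/

set_option autoImplicit false

universe u

namespace Cfsg.Agent.H844.Ore.BFrame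

open Cfsg Cfsg.Agent Cfsg.Agent.H777.Ore
open Subgroup (centralizer mem_centralizer_singleton_iff center)

variable {L : Type u} [Group L]

theorem card_cent_le_pow [Finite L] (g : L) (k : ℕ) :
    Nat.card ↥(centralizer ({g} : Set L)) ≤ Nat.card ↥(centralizer ({g ^ k} : Set L)) := by
  refine Subgroup.card_le_of_le fun y hy => ?_
  rw [mem_centralizer_singleton_iff] at hy ⊢
  exact ((show Commute y g from hy).pow_right k).eq

theorem cent_inv (g : L) : centralizer ({g⁻¹} : Set L) = centralizer ({g} : Set L) := by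
  ext y
  rw [mem_centralizer_singleton_iff, mem_centralizer_singleton_iff]
  constructor
  · intro h
    have := (show Commute y g⁻¹ from h).inv_right
    rw [inv_inv] at this
    exact this
  · intro h
    exact (show Commute y g from h).inv_right

/-- `s` of type 3A in the Baby Monster is no cube -/
theorem fi_no_cube {s : L} (hs : FiB s) (y : L) (hy : y ^ 3 = s) : False := by
  obtain ⟨t₀, hA, h2, e, x, hx, rfl, hf⟩ := hs
  exact H480.Ore.no_cube hA h2 e hx hf y hy

theorem fi_order {s : L} (hs : FiB s) : orderOf s = 3 := by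
  obtain ⟨t₀, hA, h2, e, x, hx, rfl, hf⟩ := hs
  exact H480.Ore.order_s hA h2 e hx hf

theorem fi_mul (hFi : AllC Spor.Fi22) {s : L} (hs : FiB s) {u : L} {n : ℕ} (hn : u ^ 2 ^ n = 1) (hus : u * s = s * u) :
    IsC (u * s) ∨ Nat.card ↥(centralizer ({u * s} : Set L)) ≤ 7700000000 := by
  obtain ⟨t₀, hA, h2, e, x, hx, rfl, hf⟩ := hs
  exact H480.Ore.three_A hA h2 e hx hf hFi hn hus

/-- `6 ∣ orderOf g`, the element `g ^ (orderOf g / 3)` of type 3A, `g` a `{2, 3}`-element -/
theorem fi_elt (hFi : AllC Spor.Fi22) [Finite L] {g : L} (a b : ℕ) (ho : orderOf g = 2 ^ a * 3 ^ b)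
    (hs : FiB (g ^ (orderOf g / 3))) : IsC g ∨ Nat.card ↥(centralizer ({g} : Set L)) ≤ 7700000000 := by
  obtain ⟨s, hs'⟩ : ∃ s, s = g ^ (orderOf g / 3) := ⟨_, rfl⟩
  rw [← hs'] at hs
  have hos := fi_order hs
  -- `b = 1`
  have hb : b = 1 := by
    rcases b with _ | _ | b
    · exfalso
      rw [pow_zero, mul_one] at ho
      have h1 : s ^ 2 ^ a = 1 := by rw [hs', ← pow_mul, mul_comm, pow_mul, ← ho, pow_orderOf_eq_one, one_pow]
      have h2 := orderOf_dvd_of_pow_eq_one h1
      rw [hos] at h2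
      have := Nat.prime_three.dvd_of_dvd_pow h2
      revert this
      decide
    · rfl
    · exfalso
      refine fi_no_cube hs (g ^ (2 ^ a * 3 ^ b)) ?_
      rw [hs', ← pow_mul, ho]
      congr 1
      have : 2 ^ a * 3 ^ (b + 1 + 1) = 3 * (2 ^ a * 3 ^ b * 3) := by ring
      rw [this, Nat.mul_div_cancel_left _ (by norm_num : 0 < 3)]
  subst hb
  rw [pow_one] at ho
  have hs2 : s = g ^ 2 ^ a := by
    rw [hs', ho, Nat.mul_div_cancel _ (by norm_num : 0 < 3)]
  -- the decomposition
  have hcop : Nat.Coprime (2 ^ a) 3 := Nat.Coprime.pow_left _ (by norm_num)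
  have hbez : ((2 ^ a : ℕ) : ℤ) * Nat.gcdA (2 ^ a) 3 + ((3 : ℕ) : ℤ) * Nat.gcdB (2 ^ a) 3 = 1 := by
    have := Nat.gcd_eq_gcd_ab (2 ^ a) 3
    rw [hcop] at this
    exact_mod_cast this.symm
  set m := Nat.gcdA (2 ^ a) 3 with hm
  set n := Nat.gcdB (2 ^ a) 3 with hn
  have hg : g = g ^ (((3 : ℕ) : ℤ) * n) * s ^ m := by
    have e1 : s ^ m = g ^ (((2 ^ a : ℕ) : ℤ) * m) := by rw [hs2, ← zpow_natCast, ← zpow_mul]
    rw [e1, ← zpow_add, add_comm, hbez, zpow_one]
  obtain ⟨u, hu⟩ : ∃ u, u = g ^ (((3 : ℕ) : ℤ) * n) := ⟨_, rfl⟩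
  rw [← hu] at hg
  have hu1 : u ^ 2 ^ a = 1 := by
    rw [hu, ← zpow_natCast, ← zpow_mul]
    have e1 : ((3 : ℕ) : ℤ) * n * ((2 ^ a : ℕ) : ℤ) = ((orderOf g : ℕ) : ℤ) * n := by
      rw [ho]
      push_cast
      ring
    rw [e1, zpow_mul, zpow_natCast, pow_orderOf_eq_one, one_zpow]
  have hus : u * s = s * u := by
    rw [hu, hs2]
    exact ((Commute.refl g).zpow_left _).pow_right _
  -- `s ^ m`
  have hcase : s ^ m = s ∨ s ^ m = s⁻¹ ∨ s ^ m = 1 := by
    have h1 : s ^ m = s ^ (m % 3) := by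
      rw [← zpow_mod_orderOf, hos]
      rfl
    have h2 : m % 3 = 0 ∨ m % 3 = 1 ∨ m % 3 = 2 := by omega
    have h3 : s ^ (3 : ℤ) = 1 := by
      have := pow_orderOf_eq_one s
      rw [hos] at this
      exact_mod_cast this
    rcases h2 with h2 | h2 | h2
    · right; right
      rw [h1, h2, zpow_zero]
    · left
      rw [h1, h2, zpow_one]
    · right; left
      rw [h1, h2]
      apply eq_inv_of_mul_eq_one_left
      rw [← h3]
      group
  rcases hcase with h1 | h1 | h1
  · rw [h1] at hg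
    rw [hg]
    exact fi_mul hFi hs hu1 hus
  · rw [h1] at hg
    have hg' : g⁻¹ = u⁻¹ * s := by
      rw [hg, mul_inv_rev, inv_inv]
      exact (show Commute s u from hus.symm).inv_right
    rcases fi_mul hFi hs (u := u⁻¹) (n := a) (by rw [inv_pow, hu1, inv_one])
      (show Commute u s from hus).inv_left with h2 | h2
    · left
      rw [← hg'] at h2
      have := h2.inv
      rwa [inv_inv] at this
    · right
      rw [← hg', cent_inv] at h2
      exact h2
  · exfalso
    rw [h1, mul_one] at hg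
    have h2 : orderOf g ∣ 2 ^ a := by
      rw [hg]
      exact orderOf_dvd_of_pow_eq_one hu1
    rw [ho] at h2
    have h3 := Nat.le_of_dvd (by positivity) h2
    have h4 : 0 < 2 ^ a := by positivity
    omega

/-- a natural number without prime divisor at least five -/
theorem exists_two_three {n : ℕ} (h0 : n ≠ 0) (h : ∀ p, p.Prime → p ∣ n → p < 5) : ∃ a b : ℕ, n = 2 ^ a * 3 ^ b := by
  refine ⟨n.factorization 2, n.factorization 3, ?_⟩
  conv_lhs => rw [← Nat.prod_factorization_pow_eq_self h0]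
  have hsub : n.factorization.support ⊆ {2, 3} := by
    intro p hp
    rw [Nat.support_factorization, Nat.mem_primeFactors] at hp
    have h1 := h p hp.1 hp.2.1
    have h2 := hp.1.two_le
    have h3 : p ≠ 4 := by
      rintro rfl
      exact absurd hp.1 (by norm_num)
    have : p = 2 ∨ p = 3 := by omega
    rcases this with rfl | rfl <;> simp
  rw [Finsupp.prod_of_support_subset _ hsub _ (fun _ _ => pow_zero _)]
  rw [Finset.prod_pair (by norm_num)]

/-- **Row B** -/
theorem frame (h : Spor.IsoB L) (hT : ∀ g : L, Nat.card ↥(centralizer ({g} : Set L)) ≤ 7700000000 → IsC g)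
    (h5 : ∀ y : L, (orderOf y).Prime → 5 ≤ orderOf y → Nat.card ↥(centralizer ({y} : Set L)) ≤ 7700000000)
    (hO : H903.Ore.Baby.OreF23Two) (hF23 : AllC Spor.Fi23) (hFi : AllC Spor.Fi22) : AllC L := by
  have hfin : Finite L := Nat.finite_of_card_ne_zero (by rw [NotCT.Orders.b h]; norm_num)
  intro g
  have h0 : orderOf g ≠ 0 := (orderOf_pos g).ne'
  by_cases hp : ∃ p, p.Prime ∧ p ∣ orderOf g ∧ 5 ≤ p
  · obtain ⟨p, hp, hpg, hp5⟩ := hp
    have ho : orderOf (g ^ (orderOf g / p)) = p := orderOf_pow_orderOf_div h0 hpg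
    exact hT g ((card_cent_le_pow g _).trans (h5 _ (by rw [ho]; exact hp) (by rw [ho]; exact hp5)))
  push Not at hp
  obtain ⟨a, b, hab⟩ := exists_two_three h0 hp
  rcases Nat.eq_zero_or_pos a with rfl | ha
  · rw [pow_zero, one_mul] at hab
    exact H58.Ore.BThree.three_elt hF23 h (k := b) (by rw [← hab, pow_orderOf_eq_one])
  rcases Nat.eq_zero_or_pos b with rfl | hb
  · rw [pow_zero, mul_one] at hab
    exact H903.Ore.Baby.two_B h hO ⟨a, hab⟩
  have h6 : 6 ∣ orderOf g := by
    rw [hab, show (6 : ℕ) = 2 * 3 from rfl]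
    exact mul_dvd_mul (dvd_pow_self 2 ha.ne') (dvd_pow_self 3 hb.ne')
  rcases BThree.cent_six h h6 with h1 | h1
  · exact hT g (h1.trans (by norm_num))
  · rcases fi_elt hFi a b hab h1 with h2 | h2
    · exact h2
    · exact hT g h2

end Cfsg.Agent.H844.Ore.BFrame
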