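import Cfsg.Agent.H844.Ore.BInv
import Cfsg.Agent.H723.Pair.BSec
import Cfsg.Agent.H648.Loc.E6Cent
import Cfsg.Agent.H935.RuM.Mon
import Cfsg.Agent.H199.AbB

/-!
# Row B of Ore: the elements of order 13 of the Baby Monster (helper844)

* `card_inv` : `|C(u) ∩ C(y)| ≤ 312`, `u` an involution commuting with `y` of order 13.
-/

set_option autoImplicit false
set_option maxRecDepth 100000
set_option linter.unusedSectionVars false

namespace Cfsg.Agent.H844.Ore.BThirteen

open Subgroup Cfsg Cfsg.Agent.R01.Lifts Cfsg.Agent.MonsterN Cfsg.Agent.MonsterN.Lit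
open Cfsg.Agent.BabyComp Cfsg.Agent.BabyComp.Main Cfsg.Agent.BabyComp.BaseTwo
open Cfsg.Agent.H713.Spor

section sec

variable {X E : Type*} [Group X] [Finite X] [Group E] [Finite E] {t : X} {X₀ : Subgroup X} {σ : ↥X₀ →* E}

theorem index_two (H : Sec.Data t σ) (hcard : Nat.card (centralizer ({t} : Set X)) = 4 * Nat.card E) :
    (X₀.subgroupOf (centralizer ({t} : Set X))).index = 2 := by
  have hle : X₀ ≤ centralizer ({t} : Set X) := fun m hm => mem_centralizer_singleton_iff.2 (H.comm m hm)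
  have h1 := (X₀.subgroupOf (centralizer ({t} : Set X))).card_mul_index
  rw [Nat.card_congr (subgroupOfEquivOfLe hle).toEquiv, H723.Pair.BSec.card_X₀ H, hcard] at h1
  have h2 : 0 < Nat.card E := Nat.card_pos
  have h3 : Nat.card E * 2 * (X₀.subgroupOf (centralizer ({t} : Set X))).index = Nat.card E * 2 * 2 := by
    rw [h1]; ring
  exact Nat.eq_of_mul_eq_mul_left (by positivity) h3

theorem mem_of_odd (H : Sec.Data t σ) (hcard : Nat.card (centralizer ({t} : Set X)) = 4 * Nat.card E) {y : X}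
    (hy : Odd (orderOf y)) (hyt : y * t = t * y) : y ∈ X₀ := by
  have h1 := Subgroup.sq_mem_of_index_two (index_two H hcard) ⟨y, mem_centralizer_singleton_iff.2 hyt⟩
  have h2 : y ^ 2 ∈ X₀ := h1
  obtain ⟨k, hk⟩ := hy
  have h3 : y = (y ^ 2) ^ (k + 1) := by
    rw [← pow_mul, show 2 * (k + 1) = orderOf y + 1 by omega, pow_succ, pow_orderOf_eq_one, one_mul]
  rw [h3]
  exact pow_mem h2 _

theorem card_inf_le (H : Sec.Data t σ) (hcard : Nat.card (centralizer ({t} : Set X)) = 4 * Nat.card E) {y : X}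
    (hy : Odd (orderOf y)) (hyt : y * t = t * y) {m : ℕ}
    (hm : ∀ e : E, orderOf e = orderOf y → Nat.card ↥(centralizer ({e} : Set E)) ≤ m) :
    Nat.card ↥(centralizer ({t} : Set X) ⊓ centralizer ({y} : Set X)) ≤ 4 * m := by
  have hyX := mem_of_odd H hcard hy hyt
  obtain ⟨H1, hH1⟩ : ∃ H1 : Subgroup X, H1 = centralizer ({t} : Set X) ⊓ centralizer ({y} : Set X) := ⟨_, rfl⟩
  rw [← hH1]
  have hle : H1 ≤ centralizer ({t} : Set X) := hH1 ▸ inf_le_left
  -- the index
  have h1 : X₀.relIndex H1 ≤ 2 := by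
    have h2 : X₀.relIndex (centralizer ({t} : Set X)) = 2 := index_two H hcard
    have h3 : X₀.relIndex H1 ≤ X₀.relIndex (centralizer ({t} : Set X)) :=
      Subgroup.relIndex_le_of_le_right hle (by rw [h2]; norm_num)
    omega
  have h2 := (X₀.subgroupOf H1).card_mul_index
  have h3 : (X₀.subgroupOf H1).index = X₀.relIndex H1 := rfl
  rw [h3] at h2
  have h4 : Nat.card ↥(X₀.subgroupOf H1) = Nat.card ↥(H1.subgroupOf X₀) := by
    have e1 : Nat.card ↥((X₀.subgroupOf H1).map H1.subtype) = Nat.card ↥(X₀.subgroupOf H1) :=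
      card_map_of_injective (Subgroup.subtype_injective _)
    have e2 : Nat.card ↥((H1.subgroupOf X₀).map X₀.subtype) = Nat.card ↥(H1.subgroupOf X₀) :=
      card_map_of_injective (Subgroup.subtype_injective _)
    rw [← e1, ← e2, subgroupOf_map_subtype, subgroupOf_map_subtype, inf_comm]
  -- the map
  have h5 : Nat.card ↥(H1.subgroupOf X₀) ≤ 2 * m := by
    let f : ↥(H1.subgroupOf X₀) →* E := σ.comp (H1.subgroupOf X₀).subtype
    rw [H723.Pair.BSec.card_eq_mul f, mul_comm]
    have hyo : orderOf (σ ⟨y, hyX⟩) = orderOf y := by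
      refine Nat.dvd_antisymm ((orderOf_map_dvd σ _).trans (by rw [Subgroup.orderOf_mk])) ?_
      apply orderOf_dvd_of_pow_eq_one
      have h6 : σ ((⟨y, hyX⟩ : ↥X₀) ^ orderOf (σ ⟨y, hyX⟩)) = 1 := by rw [map_pow, pow_orderOf_eq_one]
      rcases (H.ker _).1 h6 with h7 | h7
      · exact h7
      · exfalso
        have h8 : y ^ orderOf (σ ⟨y, hyX⟩) = t := h7
        have h9 : orderOf t = 2 := orderOf_eq_prime (by rw [pow_two, H.t_sq]) H.t_ne
        have h10 : orderOf t ∣ orderOf y := by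
          rw [← h8]
          exact orderOf_pow_dvd _
        rw [h9] at h10
        exact (Nat.not_even_iff_odd.2 hy) (even_iff_two_dvd.2 h10)
    refine Nat.mul_le_mul ?_ ?_
    · rw [← H723.Pair.BSec.card_ker H]
      refine Nat.card_le_card_of_injective
        (fun a : f.ker => (⟨((a : ↥(H1.subgroupOf X₀)) : ↥X₀), (MonoidHom.mem_ker).1 a.2⟩ : σ.ker)) ?_
      intro a b hab
      have h6 := congrArg (fun c : σ.ker => (c : ↥X₀)) hab
      exact Subtype.ext (Subtype.ext h6)
    · refine le_trans (Subgroup.card_le_of_le ?_) (hm (σ ⟨y, hyX⟩) hyo)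
      rintro _ ⟨a, rfl⟩
      rw [mem_centralizer_singleton_iff]
      show σ _ * σ _ = σ _ * σ _
      rw [← map_mul, ← map_mul]
      congr 1
      apply Subtype.ext
      have h6 : ((a : ↥X₀) : X) ∈ H1 := a.2
      have h7 := (le_of_eq hH1) h6
      exact mem_centralizer_singleton_iff.1 h7.2
  calc Nat.card ↥H1 = Nat.card ↥(X₀.subgroupOf H1) * X₀.relIndex H1 := h2.symm
    _ ≤ 2 * m * 2 := Nat.mul_le_mul (h4 ▸ h5) h1
    _ = 4 * m := by ring

end sec

section

variable {B X E : Type*} [Group B] [Group X] [Group E] [Finite B] [Finite X] {q : B →* X} {τ : B} {R : Set E}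
variable {y : ℕ → B} {h : Pre y} {π : KK y →* E} {f₁ f₂ f₃ f₄ : B}

/-- **The involutions** : transpositions `d`, involutions with a lift conjugate to `z`, products `d d'` of transpositions
with `d`, `d'` unique. -/
theorem cases_inv {F : Type*} [Field F] [Fintype F] {hF : Fintype.card F = 2 ^ 2}
    (hR : Cfsg.Agent.BabyU.RootCfg.RootFacts hF R) (hX : Cfsg.Agent.BabyU.Key.Extra hF R)
    (Rt : Cfsg.Agent.BabyU.Lab.Roots E R)
    (hq : Ext q τ) (h10 : y 10 = τ) (D : KD h R π) (Fc : FusionType.Facts τ f₁ f₂ f₃ f₄)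
    {Γ : Type*} [Group Γ] [Finite Γ] {θ : B →* Γ} {z : Γ}
    (hcz : IsConj z (θ (τ * (f₁ * f₂)))) (hcd : IsConj z (θ (f₁ * f₂ * f₃)))
    (hc5 : IsConj f₁ (y 5)) (big : KEq.Big B τ (y 5)) {M₁ : Subgroup X} (Bs : Base2 (q (y 5)) M₁)
    {u : X} (hu : orderOf u = 2) :
    IsConj (q (y 5)) u ∨ (∃ w : B, w * w = 1 ∧ q w = u ∧ IsConj z (θ w)) ∨
      ∃ d : X, IsConj (q (y 5)) d ∧ (∀ v : X, Odd (orderOf v) → v * u = u * v → v * d = d * v) ∧
        ∀ v : X, v * u = u * v → v * d * v⁻¹ = d ∨ v * d * v⁻¹ = d * u := by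
  have huu : u * u = 1 := by rw [← pow_two, ← hu, pow_orderOf_eq_one]
  have hu1 : u ≠ 1 := by
    rintro rfl
    rw [orderOf_one] at hu
    omega
  obtain ⟨b, rfl⟩ := hq.surj u
  have hbb : b * b = 1 ∨ b * b = τ := (hq.ker _).1 (by rw [map_mul, huu])
  rcases hbb with hbb | hbb
  · rcases Fc.classes b hbb (fun e => hu1 (by rw [e, map_one])) (fun e => hu1 (by rw [e, hq.mapz])) with h1 | h1 | h1 | h1
    · exact Or.inl (q.map_isConj (hc5.symm.trans h1))
    · refine Or.inr (Or.inl ⟨τ * b, ?_, by rw [map_mul, hq.mapz, one_mul],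
        hcz.trans (θ.map_isConj (FusionType.conj_mul_t Fc.cen h1))⟩)
      calc τ * b * (τ * b) = τ * (b * τ) * b := by group
        _ = τ * (τ * b) * b := by rw [hq.comm]
        _ = (τ * τ) * (b * b) := by group
        _ = 1 := by rw [hq.zz, hbb, one_mul]
    · exact Or.inr (Or.inl ⟨b, hbb, rfl, hcz.trans (θ.map_isConj h1)⟩)
    · exact Or.inr (Or.inl ⟨b, hbb, rfl, hcd.trans (θ.map_isConj h1)⟩)
  · right
    right
    have hM := BaseTwo.Base.eq_map hq h10 big Bs.toBase
    -- `u` has no conjugate in `M₁`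
    have hno : ∀ g : X, g⁻¹ * q b * g ∉ M₁ := by
      intro g hg
      obtain ⟨c, rfl⟩ := hq.surj g
      obtain ⟨k, hk, hqk⟩ := M_le hq h10 big Bs.toBase _ hg
      have hkk : k * k = 1 := by
        refine lift_sq hR hX Rt hq h10 D hk ?_
        rw [hqk]
        calc (q c)⁻¹ * q b * q c * ((q c)⁻¹ * q b * q c) = (q c)⁻¹ * (q b * q b) * q c := by group
          _ = 1 := by rw [huu]; group
      have h1 : q k = q (c⁻¹ * b * c) := by rw [hqk, map_mul, map_mul, map_inv]
      have h2 : k * k = τ := by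
        have h3 : c⁻¹ * b * c * (c⁻¹ * b * c) = τ := by
          calc c⁻¹ * b * c * (c⁻¹ * b * c) = c⁻¹ * (b * b) * c := by group
            _ = c⁻¹ * (τ * c) := by rw [hbb, mul_assoc]
            _ = c⁻¹ * (c * τ) := by rw [hq.comm]
            _ = τ := by group
        rcases hq.map_eq.1 h1 with h4 | h4
        · rw [h4, h3]
        · rw [h4]
          calc c⁻¹ * b * c * τ * (c⁻¹ * b * c * τ) = c⁻¹ * b * c * (τ * (c⁻¹ * b * c)) * τ := by group
            _ = c⁻¹ * b * c * (c⁻¹ * b * c * τ) * τ := by rw [hq.comm (c⁻¹ * b * c)]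
            _ = (c⁻¹ * b * c * (c⁻¹ * b * c)) * (τ * τ) := by group
            _ = τ := by rw [h3, hq.zz, mul_one]
      rw [hkk] at h2
      exact hq.zne h2.symm
    rcases Bs.classes (q b) huu hu1 with ⟨g, hg⟩ | ⟨d, hd', hc, hud⟩
    · exact absurd hg (hno g)
    · obtain ⟨g, hg⟩ := isConj_iff.1 hd'
      obtain ⟨c, rfl⟩ := hq.surj g
      set t := q (y 5) with ht
      have htt : t * t = 1 := by rw [ht, ← map_mul, h.sq 5 (by norm_num) (by norm_num), map_one]
      have htM : t ∈ M₁ := by rw [hM]; exact ⟨y 5, h.five_mem, rfl⟩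
      set u' : X := (q c)⁻¹ * q b * q c with hu'
      have hdt : (q c)⁻¹ * d * q c = t := by rw [← hg]; group
      have hu't : u' * t = t * u' := by
        calc u' * t = (q c)⁻¹ * (q b * d) * q c := by rw [← hdt, hu']; group
          _ = (q c)⁻¹ * (d * q b) * q c := by rw [hc]
          _ = t * u' := by rw [← hdt, hu']; group
      -- the transposition `d' = t u'`
      have hd'T : IsConj t (t * u') := by
        refine hud.trans (isConj_iff.2 ⟨(q c)⁻¹, ?_⟩)
        rw [← hu't, inv_inv, ← hdt, hu']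
        group
      have htd' : t * (t * u') = u' := by rw [← mul_assoc, htt, one_mul]
      have hd'M : t * u' ∉ M₁ := by
        intro h1
        have h2 := M₁.mul_mem htM h1
        rw [htd'] at h2
        exact hno (q c) h2
      have hcomm : ∀ v : X, v * q b = q b * v → (q c)⁻¹ * v * q c * u' = u' * ((q c)⁻¹ * v * q c) := by
        intro v hvu
        rw [hu']
        calc (q c)⁻¹ * v * q c * ((q c)⁻¹ * q b * q c) = (q c)⁻¹ * (v * q b) * q c := by group
          _ = (q c)⁻¹ * (q b * v) * q c := by rw [hvu]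
          _ = _ := by group
      refine ⟨d, hd', fun v hv hvu => ?_, fun v hvu => ?_⟩
      · have hx' : orderOf ((q c)⁻¹ * v * q c) = orderOf v := by
          have h3 : (q c)⁻¹ * v * q c = MulAut.conj (q c)⁻¹ v := by rw [MulAut.conj_apply, inv_inv]
          rw [h3, MulEquiv.orderOf_eq]
        have h1 := Bs.comm_of_odd (t * u') ((q c)⁻¹ * v * q c) hd'T (by rw [mul_assoc, hu't]) hd'M
          (by rw [hx']; exact hv) (by rw [htd']; exact hcomm v hvu)
        rw [← hg]
        calc v * (q c * t * (q c)⁻¹) = q c * ((q c)⁻¹ * v * q c * t) * (q c)⁻¹ := by group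
          _ = q c * (t * ((q c)⁻¹ * v * q c)) * (q c)⁻¹ := by rw [h1]
          _ = _ := by group
      · set v' : X := (q c)⁻¹ * v * q c with hv'
        have hvu' : v' * u' = u' * v' := hcomm v hvu
        have hvi : v'⁻¹ * u' = u' * v'⁻¹ := (show Commute v' u' from hvu').inv_left
        have h1 := Bs.uniq (t * u') (v' * t * v'⁻¹) hd'T (by rw [mul_assoc, hu't]) hd'M
          (isConj_iff.2 ⟨v', rfl⟩) (by
            rw [htd']
            calc v' * t * v'⁻¹ * u' = v' * t * (v'⁻¹ * u') := by group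
              _ = v' * (t * u') * v'⁻¹ := by rw [hvi]; group
              _ = (v' * u') * t * v'⁻¹ := by rw [← hu't]; group
              _ = u' * (v' * t * v'⁻¹) := by rw [hvu']; group) (by
            rw [htd']
            refine hd'T.trans (isConj_iff.2 ⟨v', ?_⟩)
            calc v' * (t * u') * v'⁻¹ = v' * t * (u' * v'⁻¹) := by group
              _ = v' * t * v'⁻¹ * u' := by rw [← hvi]; group)
        have h2 : v * d * v⁻¹ = q c * (v' * t * v'⁻¹) * (q c)⁻¹ := by
          rw [← hdt, hv']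
          group
        rcases h1 with h1 | h1
        · left
          rw [h2, h1, ← hdt]
          group
        · right
          rw [h2, h1, ← hdt, hu']
          group

end

/-- lifts of elements of odd order -/
theorem exists_lift_odd {B X : Type*} [Group B] [Group X] {q : B →* X} {τ : B} (hq : Ext q τ) {y : X}
    (hy : Odd (orderOf y)) : ∃ x : B, orderOf x = orderOf y ∧ q x = y := by
  obtain ⟨b, hb⟩ := hq.surj y
  have key : ∀ x : B, q x = y → x ^ orderOf y = 1 → orderOf x = orderOf y := by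
    intro x hx h1
    refine Nat.dvd_antisymm (orderOf_dvd_of_pow_eq_one h1) ?_
    apply orderOf_dvd_of_pow_eq_one
    rw [← hx, ← map_pow, pow_orderOf_eq_one, map_one]
  rcases (hq.ker (b ^ orderOf y)).1 (by rw [map_pow, hb, pow_orderOf_eq_one]) with h1 | h1
  · exact ⟨b, key b hb h1, hb⟩
  · have h2 : q (b * τ) = y := by rw [map_mul, hq.mapz, mul_one, hb]
    refine ⟨b * τ, key _ h2 ?_, h2⟩
    rw [(show Commute b τ from hq.comm b).mul_pow, h1, pow_odd_of_sq hq.zz hy, hq.zz]

/-- a transposition and an element of order 13 -/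
theorem card_trans {d y : Spor.BabyMonster}
    (hd : IsConj d (PresentedGroup.of Spor.BabyMonster.Gen.t1 : Spor.BabyMonster)) (hy : orderOf y = 13)
    (hyd : y * d = d * y) :
    Nat.card ↥(centralizer ({d} : Set Spor.BabyMonster) ⊓ centralizer ({y} : Set Spor.BabyMonster)) ≤ 156 := by
  have hfin := CTwoTab.BInst.finite_B
  obtain ⟨K, iF, iT, hK, t, X₀, σ, D, ht, hcard⟩ := CTwoTab.BInst.exists_sec
  obtain ⟨g, hg⟩ := isConj_iff.1 (hd.trans ht.symm)
  have hcE := Cfsg.Agent.BM.HBFinal.card_E K hK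
  have hfE : Finite (Lie.twistedE6 K 2) := Nat.finite_of_card_ne_zero (by rw [hcE]; norm_num)
  have hy' : orderOf (g * y * g⁻¹) = 13 := by
    rw [← hy]
    exact orderOf_injective (MulAut.conj g).toMonoidHom (MulAut.conj g).injective y
  have h1 := card_inf_le D (by rw [hcard, hcE]) (y := g * y * g⁻¹) (by rw [hy']; decide)
    (by rw [← hg]; calc g * y * g⁻¹ * (g * d * g⁻¹) = g * (y * d) * g⁻¹ := by group
          _ = g * (d * y) * g⁻¹ := by rw [hyd]
          _ = _ := by group) (m := 39) (fun e he => (H648.Loc.e6_cent hK (he.trans hy')).1)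
  refine le_trans (le_of_eq ?_) h1
  have e1 : Nat.card ↥((centralizer ({d} : Set Spor.BabyMonster) ⊓ centralizer ({y} : Set Spor.BabyMonster)).map
      (MulAut.conj g).toMonoidHom) =
      Nat.card ↥(centralizer ({d} : Set Spor.BabyMonster) ⊓ centralizer ({y} : Set Spor.BabyMonster)) :=
    card_map_of_injective (MulAut.conj g).injective
  have e2 : (centralizer ({d} : Set Spor.BabyMonster) ⊓ centralizer ({y} : Set Spor.BabyMonster)).map
      (MulAut.conj g).toMonoidHom =
      centralizer ({t} : Set Spor.BabyMonster) ⊓ centralizer ({g * y * g⁻¹} : Set Spor.BabyMonster) := ?_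
  rw [← e1, e2]
  ext c
  rw [mem_map_equiv, mem_inf, mem_inf, mem_centralizer_singleton_iff, mem_centralizer_singleton_iff,
    mem_centralizer_singleton_iff, mem_centralizer_singleton_iff, MulAut.conj_symm_apply, ← hg]
  have key : ∀ a : Spor.BabyMonster, g⁻¹ * c * g * a = a * (g⁻¹ * c * g) ↔ c * (g * a * g⁻¹) = g * a * g⁻¹ * c := by
    intro a
    constructor
    · intro h
      calc c * (g * a * g⁻¹) = g * (g⁻¹ * c * g * a) * g⁻¹ := by group
        _ = g * (a * (g⁻¹ * c * g)) * g⁻¹ := by rw [h]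
        _ = _ := by group
    · intro h
      calc g⁻¹ * c * g * a = g⁻¹ * (c * (g * a * g⁻¹)) * g := by group
        _ = g⁻¹ * (g * a * g⁻¹ * c) * g := by rw [h]
        _ = _ := by group
  rw [key, key]

/-- **An involution commuting with an element of order 13.** -/
theorem card_inv {u y : Spor.BabyMonster} (hu : orderOf u = 2) (hy : orderOf y = 13) (hyu : y * u = u * y) :
    Nat.card ↥(centralizer ({u} : Set Spor.BabyMonster) ⊓ centralizer ({y} : Set Spor.BabyMonster)) ≤ 312 := by
  have hodd : Odd (orderOf y) := by rw [hy]; decide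
  refine CTwoTab.BInst.elim ?_
  intro K iF iT hK hF i1 i2 i3 i4 q y' h π f₁ f₂ f₃ f₄ M₁ hq h10 DK Fc hz hcz hcd hL hc5 big hq5 hcard Bs hr
  obtain ⟨M₂, Bs2⟩ := BaseTwo.exists_base2 hq5
  have A := CTwoTab.BInst.all
  have hfB := CTwoTab.BInst.finite_B
  have h1 := cases_inv (hF := hF) (Cfsg.Agent.TwoESix.LeviG.rootFacts hK hF) (Cfsg.Agent.BabyU.KeyInst.extra hF)
    (Cfsg.Agent.TwoESix.RootsInst.roots K hF) hq h10 DK Fc hcz hcd hc5 big Bs2 hu
  rcases h1 with h1 | ⟨w, hww, hwu, hw⟩ | ⟨d, hd, h1, h2⟩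
  · exact (card_trans (h1.symm.trans hq5) hy hyu).trans (by norm_num)
  · exfalso
    obtain ⟨x, hx, hxy⟩ := exists_lift_odd hq hodd
    rw [hy] at hx
    have hxw : x * w = w * x := by
      rw [← hxy, ← hwu] at hyu
      exact (BInv.comm_of_odd hq (b := w) (x := x) (by rw [hx]; decide) hyu.symm).symm
    obtain ⟨g, hg⟩ := isConj_iff.1 hw
    set τ : ↥(LitInst.BB MonsterX.KDone.K MonsterX.KLinkInst.x₀) :=
      LitInst.tb MonsterX.KDone.K MonsterX.KLinkInst.x₀ with hτ
    set θ := (LitInst.BB MonsterX.KDone.K MonsterX.KLinkInst.x₀).subtype with hθ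
    have key : ∀ a : ↥(LitInst.BB MonsterX.KDone.K MonsterX.KLinkInst.x₀), a * w = w * a →
        (g⁻¹ * θ a * g) * MonsterX.KDone.K.z = MonsterX.KDone.K.z * (g⁻¹ * θ a * g) := by
      intro a ha
      calc (g⁻¹ * θ a * g) * MonsterX.KDone.K.z = g⁻¹ * (θ a * (g * MonsterX.KDone.K.z * g⁻¹)) * g := by group
        _ = g⁻¹ * (θ (a * w)) * g := by rw [hg, map_mul]
        _ = g⁻¹ * ((g * MonsterX.KDone.K.z * g⁻¹) * θ a) * g := by rw [ha, map_mul, hg]
        _ = MonsterX.KDone.K.z * (g⁻¹ * θ a * g) := by group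
    have h2 := H935.RuM.eq_zz (x := g⁻¹ * θ x * g) (t := g⁻¹ * θ τ * g) (by
        have h3 : g⁻¹ * θ x * g = MulAut.conj g⁻¹ (θ x) := by rw [MulAut.conj_apply, inv_inv]
        rw [h3, MulEquiv.orderOf_eq, hθ, orderOf_injective _ (Subgroup.subtype_injective _), hx])
      (key x hxw) (key τ (hq.comm w).symm) (by
        calc g⁻¹ * θ τ * g * (g⁻¹ * θ τ * g) = g⁻¹ * θ (τ * τ) * g := by rw [map_mul]; group
          _ = 1 := by rw [hq.zz, map_one]; group) (by
        intro h3
        have h4 : θ τ = 1 := by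
          calc θ τ = g * (g⁻¹ * θ τ * g) * g⁻¹ := by group
            _ = 1 := by rw [h3]; group
        exact hq.zne (Subgroup.subtype_injective _ (h4.trans (map_one _).symm))) (by
        calc g⁻¹ * θ x * g * (g⁻¹ * θ τ * g) = g⁻¹ * θ (x * τ) * g := by rw [map_mul]; group
          _ = g⁻¹ * θ (τ * x) * g := by rw [hq.comm]
          _ = _ := by rw [map_mul]; group)
    have h3 : θ τ = θ w := by
      rw [← hg]
      calc θ τ = g * (g⁻¹ * θ τ * g) * g⁻¹ := by group
        _ = _ := by rw [h2]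
    have h4 : τ = w := Subgroup.subtype_injective _ h3
    rw [← hwu, ← h4, hq.mapz, orderOf_one] at hu
    omega
  · have hyd := h1 y hodd hyu
    have h3 := card_trans (hd.symm.trans hq5) hy hyd
    have h4 := H199.AbB.card_le_mul (C := centralizer ({u} : Set Spor.BabyMonster) ⊓ centralizer ({y} : Set Spor.BabyMonster))
      (a := d) (S := {d, d * u}) (k := 2) (by
        intro v hv
        rcases h2 v (mem_centralizer_singleton_iff.1 hv.1) with h5 | h5
        · left; exact h5
        · right; exact h5) (Set.ncard_insert_le _ _ |>.trans (by rw [Set.ncard_singleton]))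
    refine h4.trans ((Nat.mul_le_mul_left 2 ((Subgroup.card_le_of_le ?_).trans h3)).trans (by norm_num))
    rintro v ⟨⟨-, hv⟩, hv'⟩
    exact ⟨hv', hv⟩

end Cfsg.Agent.H844.Ore.BThirteen
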