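import Cfsg.Agent.H713.Spor.B
import Cfsg.Agent.LThreeB.FromM

/-!
# Row B of Ore: the involutions of the Baby Monster (helper844)

* `cases_inv` : the elements of odd order commuting with an involution `u` commute with a transposition, or their lifts
  commute with an involution of the Monster conjugate to `z`;
* `dvd_pow` : `p ^ n ∣ |C(u)|`, `p` odd, implies `p ^ n ∣ |C(t)|` or `p ^ n ∣ 2 ^ 25 |Co₁|`;
* `not_three` : `3 ^ 10` does not divide `|C(u)|`.
-/

set_option autoImplicit false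
set_option maxRecDepth 100000
set_option linter.unusedSectionVars false

namespace Cfsg.Agent.H844.Ore.BInv

open Subgroup Cfsg Cfsg.Agent.R01.Lifts Cfsg.Agent.MonsterN Cfsg.Agent.MonsterN.Lit
open Cfsg.Agent.BabyComp Cfsg.Agent.BabyComp.Main Cfsg.Agent.BabyComp.BaseTwo
open Cfsg.Agent.H713.Spor

section

variable {B X E : Type*} [Group B] [Group X] [Group E] [Finite B] [Finite X] {q : B →* X} {τ : B} {R : Set E}
variable {y : ℕ → B} {h : Pre y} {π : KK y →* E} {f₁ f₂ f₃ f₄ : B}

theorem comm_of_odd (hq : Ext q τ) {b x : B} (hx : Odd (orderOf x)) (hbx : q b * q x = q x * q b) :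
    b * x = x * b := BOf.comm_of_map hq hx (pow_orderOf_eq_one x) hbx

/-- **The main statement.** -/
theorem cases_inv {F : Type*} [Field F] [Fintype F] {hF : Fintype.card F = 2 ^ 2}
    (hR : Cfsg.Agent.BabyU.RootCfg.RootFacts hF R) (hX : Cfsg.Agent.BabyU.Key.Extra hF R)
    (Rt : Cfsg.Agent.BabyU.Lab.Roots E R)
    (hq : Ext q τ) (h10 : y 10 = τ) (D : KD h R π) (Fc : FusionType.Facts τ f₁ f₂ f₃ f₄)
    {Γ : Type*} [Group Γ] [Finite Γ] {θ : B →* Γ} {z : Γ}
    (hcz : IsConj z (θ (τ * (f₁ * f₂)))) (hcd : IsConj z (θ (f₁ * f₂ * f₃)))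
    (hc5 : IsConj f₁ (y 5)) (big : KEq.Big B τ (y 5)) {M₁ : Subgroup X} (Bs : Base2 (q (y 5)) M₁)
    {u : X} (hu : orderOf u = 2) :
    (∃ t' : X, IsConj (q (y 5)) t' ∧ ∀ v : X, Odd (orderOf v) → v * u = u * v → v * t' = t' * v) ∨
      ∃ w : B, IsConj z (θ w) ∧ ∀ x : B, Odd (orderOf x) → q x * u = u * q x → x * w = w * x := by
  have huu : u * u = 1 := by rw [← pow_two, ← hu, pow_orderOf_eq_one]
  have hu1 : u ≠ 1 := by
    rintro rfl
    rw [orderOf_one] at hu
    omega
  obtain ⟨b, rfl⟩ := hq.surj u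
  have hbb : b * b = 1 ∨ b * b = τ := (hq.ker _).1 (by rw [map_mul, huu])
  rcases hbb with hbb | hbb
  · rcases Fc.classes b hbb (fun e => hu1 (by rw [e, map_one])) (fun e => hu1 (by rw [e, hq.mapz])) with h1 | h1 | h1 | h1
    · exact Or.inl ⟨q b, q.map_isConj (hc5.symm.trans h1), fun v _ hv => hv⟩
    · refine Or.inr ⟨τ * b, hcz.trans (θ.map_isConj (FusionType.conj_mul_t Fc.cen h1)), fun x hx hxb => ?_⟩
      have hbx := comm_of_odd hq hx hxb.symm
      calc x * (τ * b) = x * τ * b := by group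
        _ = τ * (x * b) := by rw [hq.comm]; group
        _ = τ * b * x := by rw [← hbx]; group
    · exact Or.inr ⟨b, hcz.trans (θ.map_isConj h1), fun x hx hxb => (comm_of_odd hq hx hxb.symm).symm⟩
    · exact Or.inr ⟨b, hcd.trans (θ.map_isConj h1), fun x hx hxb => (comm_of_odd hq hx hxb.symm).symm⟩
  · left
    have hM := BaseTwo.Base.eq_map hq h10 big Bs.toBase
    -- `u` has no conjugate in `M₁`
    have hno : ∀ g : X, g⁻¹ * q b * g ∉ M₁ := by
      intro g hg
      obtain ⟨c, rfl⟩ := hq.surj g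
      obtain ⟨k, hk, hqk⟩ := M_le hq h10 big Bs.toBase _ hg
      have hkk : k * k = 1 := by
        refine lift_sq hR hX Rt hq h10 D hk ?_
        rw [hqk]
        calc (q c)⁻¹ * q b * q c * ((q c)⁻¹ * q b * q c) = (q c)⁻¹ * (q b * q b) * q c := by group
          _ = 1 := by rw [huu]; group
      have h1 : q k = q (c⁻¹ * b * c) := by rw [hqk, map_mul, map_mul, map_inv]
      have h2 : k * k = τ := by
        have h3 : c⁻¹ * b * c * (c⁻¹ * b * c) = τ := by
          calc c⁻¹ * b * c * (c⁻¹ * b * c) = c⁻¹ * (b * b) * c := by group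
            _ = c⁻¹ * (τ * c) := by rw [hbb, mul_assoc]
            _ = c⁻¹ * (c * τ) := by rw [hq.comm]
            _ = τ := by group
        rcases hq.map_eq.1 h1 with h4 | h4
        · rw [h4, h3]
        · rw [h4]
          calc c⁻¹ * b * c * τ * (c⁻¹ * b * c * τ) = c⁻¹ * b * c * (τ * (c⁻¹ * b * c)) * τ := by group
            _ = c⁻¹ * b * c * (c⁻¹ * b * c * τ) * τ := by rw [hq.comm (c⁻¹ * b * c)]
            _ = (c⁻¹ * b * c * (c⁻¹ * b * c)) * (τ * τ) := by group
            _ = τ := by rw [h3, hq.zz, mul_one]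
      rw [hkk] at h2
      exact hq.zne h2.symm
    rcases Bs.classes (q b) huu hu1 with ⟨g, hg⟩ | ⟨d, hd', hc, hud⟩
    · exact absurd hg (hno g)
    · obtain ⟨g, hg⟩ := isConj_iff.1 hd'
      obtain ⟨c, rfl⟩ := hq.surj g
      set t := q (y 5) with ht
      have htt : t * t = 1 := by rw [ht, ← map_mul, h.sq 5 (by norm_num) (by norm_num), map_one]
      have htM : t ∈ M₁ := by rw [hM]; exact ⟨y 5, h.five_mem, rfl⟩
      set u' : X := (q c)⁻¹ * q b * q c with hu'
      have hdt : (q c)⁻¹ * d * q c = t := by rw [← hg]; group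
      have hu't : u' * t = t * u' := by
        calc u' * t = (q c)⁻¹ * (q b * d) * q c := by rw [← hdt, hu']; group
          _ = (q c)⁻¹ * (d * q b) * q c := by rw [hc]
          _ = t * u' := by rw [← hdt, hu']; group
      -- the transposition `d' = t u'`
      have hd'T : IsConj t (t * u') := by
        refine hud.trans (isConj_iff.2 ⟨(q c)⁻¹, ?_⟩)
        rw [← hu't, inv_inv, ← hdt, hu']
        group
      have htd' : t * (t * u') = u' := by rw [← mul_assoc, htt, one_mul]
      have hd'M : t * u' ∉ M₁ := by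
        intro h1
        have h2 := M₁.mul_mem htM h1
        rw [htd'] at h2
        exact hno (q c) h2
      refine ⟨d, hd', fun v hv hvu => ?_⟩
      have hx' : orderOf ((q c)⁻¹ * v * q c) = orderOf v := by
        have h3 : (q c)⁻¹ * v * q c = MulAut.conj (q c)⁻¹ v := by rw [MulAut.conj_apply, inv_inv]
        rw [h3, MulEquiv.orderOf_eq]
      have h1 := Bs.comm_of_odd (t * u') ((q c)⁻¹ * v * q c) hd'T (by rw [mul_assoc, hu't]) hd'M
        (by rw [hx']; exact hv) (by
          rw [htd', hu']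
          calc (q c)⁻¹ * v * q c * ((q c)⁻¹ * q b * q c) = (q c)⁻¹ * (v * q b) * q c := by group
            _ = (q c)⁻¹ * (q b * v) * q c := by rw [hvu]
            _ = _ := by group)
      rw [← hg]
      calc v * (q c * t * (q c)⁻¹) = q c * ((q c)⁻¹ * v * q c * t) * (q c)⁻¹ := by group
        _ = q c * (t * ((q c)⁻¹ * v * q c)) * (q c)⁻¹ := by rw [h1]
        _ = _ := by group

end

/-- a `p`-subgroup of the image lifts -/
theorem exists_subgroup {B X : Type*} [Group B] [Group X] [Finite B] {q : B →* X} {τ : B} (hq : Ext q τ) {p n : ℕ}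
    (hp : p.Prime) (P : Subgroup X) (hP : Nat.card ↥P = p ^ n) :
    ∃ W : Subgroup B, Nat.card ↥W = p ^ n ∧ ∀ x ∈ W, q x ∈ P := by
  have : Fact p.Prime := ⟨hp⟩
  have h1 : Nat.card ↥P ∣ Nat.card ↥(P.comap q) := by
    let f : ↥(P.comap q) →* ↥P :=
      { toFun := fun x => ⟨q (x : B), x.2⟩
        map_one' := Subtype.ext (map_one q)
        map_mul' := fun a b => Subtype.ext (map_mul q (a : B) (b : B)) }
    refine card_dvd_of_surjective f fun v => ?_
    obtain ⟨x, hx⟩ := hq.surj v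
    exact ⟨⟨x, by show q x ∈ P; rw [hx]; exact v.2⟩, Subtype.ext hx⟩
  rw [hP] at h1
  obtain ⟨W, hW⟩ := Sylow.exists_subgroup_card_pow_prime p h1
  refine ⟨W.map (P.comap q).subtype, ?_, ?_⟩
  · rw [card_map_of_injective (Subgroup.subtype_injective _), hW]
  · rintro _ ⟨x, -, rfl⟩
    exact x.2

/-- **Prime powers dividing the orders of the centralizers of the involutions of the Baby Monster.** -/
theorem dvd_pow {p n : ℕ} (hp : p.Prime) (hp2 : p ≠ 2) {u : Spor.BabyMonster} (hu : orderOf u = 2)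
    (hd : p ^ n ∣ Nat.card (centralizer ({u} : Set Spor.BabyMonster))) :
    p ^ n ∣ 306129918735099415756800 ∨ p ^ n ∣ 2 ^ 25 * 4157776806543360000 := by
  have : Fact p.Prime := ⟨hp⟩
  have hodd : Odd p := hp.odd_of_ne_two hp2
  refine CTwoTab.BInst.elim ?_
  intro K iF iT hK hF i1 i2 i3 i4 q y h π f₁ f₂ f₃ f₄ M₁ hq h10 DK Fc hz hcz hcd hL hc5 big hq5 hcard Bs hr
  obtain ⟨M₂, Bs2⟩ := BaseTwo.exists_base2 hq5
  have A := CTwoTab.BInst.all
  have hfB := CTwoTab.BInst.finite_B
  have h1 := cases_inv (hF := hF) (Cfsg.Agent.TwoESix.LeviG.rootFacts hK hF) (Cfsg.Agent.BabyU.KeyInst.extra hF)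
    (Cfsg.Agent.TwoESix.RootsInst.roots K hF) hq h10 DK Fc hcz hcd hc5 big Bs2 hu
  obtain ⟨P, hP⟩ := Sylow.exists_subgroup_card_pow_prime p hd
  set P' : Subgroup Spor.BabyMonster := P.map (centralizer ({u} : Set Spor.BabyMonster)).subtype with hP'
  have hPc : Nat.card ↥P' = p ^ n := by rw [hP', card_map_of_injective (Subgroup.subtype_injective _), hP]
  have hle : P' ≤ centralizer ({u} : Set Spor.BabyMonster) := map_subtype_le _
  have ho : ∀ {G : Type} [Group G] (W : Subgroup G), Nat.card ↥W = p ^ n → ∀ x ∈ W, Odd (orderOf x) := by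
    intro G _ W hW x hx
    have h2 : orderOf x ∣ p ^ n := by
      rw [← hW, ← Subgroup.orderOf_mk x hx]
      exact orderOf_dvd_natCard _
    exact (hodd.pow).of_dvd_nat h2
  rcases h1 with ⟨t', ht', h1⟩ | ⟨w, hw, h1⟩
  · left
    rw [← hcard, ← Cfsg.Agent.Blocks.SylowIn.card_centralizer_of_isConj ht', ← hPc]
    refine card_dvd_of_le fun v hv => ?_
    exact mem_centralizer_singleton_iff.2 (h1 v (ho P' hPc v hv) (mem_centralizer_singleton_iff.1 (hle hv)))
  · right
    obtain ⟨W, hW, hWP⟩ := exists_subgroup hq hp P' hPc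
    rw [← MOf.card_cent_z A.hG A.hR A.hL A.hO A.hT, ← hz,
      ← Cfsg.Agent.Blocks.SylowIn.card_centralizer_of_isConj hw, ← hW,
      ← card_map_of_injective (Subgroup.subtype_injective (LitInst.BB MonsterX.KDone.K MonsterX.KLinkInst.x₀)) (K := W)]
    refine card_dvd_of_le ?_
    rintro _ ⟨x, hx, rfl⟩
    rw [mem_centralizer_singleton_iff]
    exact congrArg Subtype.val (h1 x (ho W hW x hx) (mem_centralizer_singleton_iff.1 (hle (hWP x hx))))

/-- **The 3-part.** -/
theorem not_three {u : Spor.BabyMonster} (hu : orderOf u = 2) :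
    ¬ 3 ^ 10 ∣ Nat.card (centralizer ({u} : Set Spor.BabyMonster)) := by
  intro h
  rcases dvd_pow Nat.prime_three (by norm_num) hu h with h1 | h1 <;> norm_num at h1

theorem not_three_B {L : Type*} [Group L] (h : Spor.IsoB L) {u : L} (hu : orderOf u = 2) :
    ¬ 3 ^ 10 ∣ Nat.card (centralizer ({u} : Set L)) := by
  obtain ⟨e⟩ := h
  rw [Cfsg.Agent.LThreeB.card_centralizer_congr e]
  exact not_three (by rw [MulEquiv.orderOf_eq, hu])

end Cfsg.Agent.H844.Ore.BInv
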