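import Cfsg.Agent.H844.Ore.BAbs
import Cfsg.Agent.H844.Ore.BInv
import Cfsg.Agent.H844.Ore.BType
import Cfsg.Agent.H199.AbMon

/-!
# Row B of Ore: the centralizers of the elements of order three in the Baby Monster (helper844)

* `mon_three` : `x` of order 3 in the Monster commuting with `t` of class 2A: `|C(x) ∩ C(t)|` divides `2 · 3^9 · 3317760`,
  `2 · 3^11 · 161280` or `3 · 92897280`, or `FiType t x`;
-/

set_option autoImplicit false
set_option maxRecDepth 100000
set_option linter.unusedSectionVars false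

namespace Cfsg.Agent.H844.Ore.BThree

open Cfsg Cfsg.Agent Cfsg.Agent.MonsterX Cfsg.Agent.MonsterX.InstData Cfsg.Agent.MonsterX.MainPack Cfsg.Agent.MonsterU
open Cfsg.Agent.MonsterP Cfsg.Agent.MonsterN Cfsg.Agent.LThree Cfsg.Agent.LThreeMB
open Cfsg.Agent.MonsterX.MainBasic Cfsg.Agent.MonsterX.MainSimple Cfsg.Agent.MonsterX.Model
open Cfsg.Agent.LThreeB (XT mem_XT centXT centXT' conjXT)
open Subgroup (centralizer mem_centralizer_singleton_iff center card_dvd_of_le zpowers)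
open Cfsg.Spor (Co1)
open Cfsg.Agent.H979.BAdj Cfsg.Agent.H979.CovLift Cfsg.Agent.H979.OddB
open Cfsg.Agent.H630.NH Cfsg.Agent.H241.NH Cfsg.Agent.H630.Baby

universe u v

section

/-- an element of 2-power order has a conjugate in a subgroup of odd index -/
theorem exists_conj_mem {D : Type*} [Group D] [Finite D] (C : Subgroup D) (h : ¬ 2 ∣ C.index) {t : D} (ht : t * t = 1) :
    ∃ d : D, d * t * d⁻¹ ∈ C := by
  have h2 : Fact (Nat.Prime 2) := ⟨Nat.prime_two⟩
  have hp : IsPGroup 2 ↥(zpowers t) := by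
    have h1 : orderOf t ∣ 2 := orderOf_dvd_of_pow_eq_one (by rw [pow_two, ht])
    rcases (Nat.dvd_prime Nat.prime_two).1 h1 with h3 | h3
    · exact IsPGroup.of_card (n := 0) (by rw [Nat.card_zpowers, h3, pow_zero])
    · exact IsPGroup.of_card (n := 1) (by rw [Nat.card_zpowers, h3, pow_one])
  obtain ⟨a, ha⟩ := hp.nonempty_fixed_point_of_prime_not_dvd_card (D ⧸ C) (by rwa [← Subgroup.index_eq_card])
  obtain ⟨d, rfl⟩ := QuotientGroup.mk_surjective a
  have h1 : (QuotientGroup.mk (t * d) : D ⧸ C) = QuotientGroup.mk d :=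
    MulAction.mem_fixedPoints.1 ha ⟨t, Subgroup.mem_zpowers t⟩
  refine ⟨d⁻¹, ?_⟩
  have h3 := QuotientGroup.eq.1 h1.symm
  rw [inv_inv, mul_assoc]
  exact h3

theorem exists_XX_map {G : Type*} [Group G] {k x₁ x : G} (h : k * x₁ * k⁻¹ = x) :
    ∃ φ : XX x ≃* XX x₁, ∀ (g : G) (hg : g * x = x * g) (hg' : (k⁻¹ * g * k) * x₁ = x₁ * (k⁻¹ * g * k)),
      φ (mk x hg) = mk x₁ hg' := by
  have key : ∀ {a b c : G}, k * a * k⁻¹ = b → c * b = b * c → (k⁻¹ * c * k) * a = a * (k⁻¹ * c * k) := by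
    intro a b c hk hc
    have ha : a = k⁻¹ * b * k := by rw [← hk]; group
    rw [ha]
    calc k⁻¹ * c * k * (k⁻¹ * b * k) = k⁻¹ * (c * b) * k := by group
      _ = k⁻¹ * (b * c) * k := by rw [hc]
      _ = _ := by group
  have key' : ∀ {c : G}, c * x₁ = x₁ * c → (k * c * k⁻¹) * x = x * (k * c * k⁻¹) := by
    intro c hc
    rw [← h]
    calc k * c * k⁻¹ * (k * x₁ * k⁻¹) = k * (c * x₁) * k⁻¹ := by group
      _ = k * (x₁ * c) * k⁻¹ := by rw [hc]
      _ = _ := by group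
  let e : ↥(centralizer ({x} : Set G)) ≃* ↥(centralizer ({x₁} : Set G)) :=
    { toFun := fun c => ⟨k⁻¹ * c * k, mem_centralizer_singleton_iff.2 (key h (mem_centralizer_singleton_iff.1 c.2))⟩
      invFun := fun c => ⟨k * c * k⁻¹, mem_centralizer_singleton_iff.2 (key' (mem_centralizer_singleton_iff.1 c.2))⟩
      left_inv := fun c => Subtype.ext (by show k * (k⁻¹ * (c : G) * k) * k⁻¹ = c; group)
      right_inv := fun c => Subtype.ext (by show k⁻¹ * (k * (c : G) * k⁻¹) * k = c; group)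
      map_mul' := fun a b => Subtype.ext (by
        show k⁻¹ * ((a : G) * b) * k = k⁻¹ * a * k * (k⁻¹ * b * k)
        group) }
  have he : (Zx x).map e.toMonoidHom = Zx x₁ := by
    have e1 : e (self x) = self x₁ := Subtype.ext (by
      show k⁻¹ * x * k = x₁
      rw [← h]
      group)
    rw [Zx, Zx, MonoidHom.map_zpowers]
    congr 1
  refine ⟨QuotientGroup.congr (Zx x) (Zx x₁) e he, fun g hg hg' => ?_⟩
  rfl

end

section suz

theorem suz_card {X : Type u} [Group X] (h : Spor.IsoSuz X) (v : X) (hv : v * v = 1) (hv1 : v ≠ 1) :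
    Nat.card ↥(centralizer ({v} : Set X)) = 3317760 ∨ Nat.card ↥(centralizer ({v} : Set X)) = 161280 := by
  obtain ⟨e⟩ := h
  rw [LThreeB.card_centralizer_congr e]
  rcases CTwoTab.Suz.classes (t := e v) (by rw [← map_mul, hv, map_one])
    (fun h1 => hv1 (e.injective (by rw [h1, map_one]))) with h2 | h2
  · left
    rw [← MThirteen.card_cent_conj h2, SuzThree.CentCard.card_C1]
    try norm_num
  · right
    rw [← MThirteen.card_cent_conj h2, KFacts.SuzTwoB.card_CE]
    try norm_num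

end suz

section zero

open Cfsg.Agent.BpSpor.M5

theorem index_odd {D : Type u} [Group D] [Finite D] {z x : D} {N : Subgroup D} {A : Type v} [Group A]
    {f : ↥(centralizer ({z} : Set D)) →* A} (h : Rad 3 z x N f) : ¬ 2 ∣ (centralizer ({z} : Set D)).index := by
  have hN := h.nN
  have h1 := BAbs.card_mul_inf N (centralizer ({z} : Set D)) (fun g => by
    obtain ⟨n, hn, c, hc, rfl⟩ := h.sup g
    exact ⟨n, hn, c, mem_centralizer_singleton_iff.2 hc, rfl⟩)
  rw [← (centralizer ({z} : Set D)).index_mul_card] at h1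
  have h2 : (centralizer ({z} : Set D)).index * Nat.card ↥(N ⊓ centralizer ({z} : Set D) : Subgroup D) = Nat.card ↥N := by
    refine Nat.eq_of_mul_eq_mul_right (Nat.card_pos (α := ↥(centralizer ({z} : Set D)))) ?_
    rw [← h1]
    ring
  intro h3
  have h4 : 2 ∣ Nat.card ↥N := by
    rw [← h2]
    exact h3.mul_right _
  exact (Nat.not_even_iff_odd.2 h.oN) (even_iff_two_dvd.2 h4)

/-- **The centralizer of an involution in the situation `Rad`.** -/
theorem rad_dvd {D : Type u} [Group D] [Finite D] {z x : D} {N : Subgroup D} {A : Type v} [Group A] [Finite A]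
    [IsSimpleGroup A] {f : ↥(centralizer ({z} : Set D)) →* A} (hns : ¬ Group.IsSolvable A) (hN : Rad 3 z x N f)
    (hNd : Nat.card ↥N ∣ 3 ^ 13)
    (hA : ∀ v : A, v * v = 1 → v ≠ 1 → Nat.card ↥(centralizer ({v} : Set A)) = 3317760 ∨
      Nat.card ↥(centralizer ({v} : Set A)) = 161280) {t : D} (htt : t * t = 1) (ht1 : t ≠ 1)
    (htz : ∀ d : D, d * t * d⁻¹ ≠ z) (h14 : ¬ 3 ^ 14 ∣ Nat.card ↥(centralizer ({t} : Set D))) :
    Nat.card ↥(centralizer ({t} : Set D)) ∣ 2 * (3 ^ 9 * 3317760) ∨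
      Nat.card ↥(centralizer ({t} : Set D)) ∣ 2 * (3 ^ 11 * 161280) := by
  have hp : Fact (Nat.Prime 3) := ⟨Nat.prime_three⟩
  obtain ⟨d, hd⟩ := exists_conj_mem (centralizer ({z} : Set D)) (index_odd hN) htt
  obtain ⟨τ, hτ⟩ : ∃ τ, d * t * d⁻¹ = τ := ⟨_, rfl⟩
  rw [hτ] at hd
  have hτz : τ * z = z * τ := mem_centralizer_singleton_iff.1 hd
  have hττ : τ * τ = 1 := by
    rw [← hτ]
    calc d * t * d⁻¹ * (d * t * d⁻¹) = d * (t * t) * d⁻¹ := by group
      _ = 1 := by rw [htt]; group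
  have hτ1 : τ ≠ 1 := by
    rw [← hτ]
    intro h1
    rw [conj_eq_one_iff] at h1
    exact ht1 h1
  have hτne : τ ≠ z := by
    rw [← hτ]
    exact htz d
  have hcc : Nat.card ↥(centralizer ({t} : Set D)) = Nat.card ↥(centralizer ({τ} : Set D)) :=
    MThirteen.card_cent_conj (isConj_iff.2 ⟨d, hτ⟩)
  rw [hcc] at h14 ⊢
  obtain ⟨m, hm1, hm2, hm3⟩ := BAbs.card_cent hns hN hττ hτz
  rw [hm1] at h14 ⊢
  -- the image of `τ`
  obtain ⟨v, hv⟩ : ∃ v, f ⟨τ, mem_centralizer_singleton_iff.2 hτz⟩ = v := ⟨_, rfl⟩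
  rw [hv] at hm2 hm3
  have hvv : v * v = 1 := by
    rw [← hv, ← map_mul]
    have h1 : (⟨τ, mem_centralizer_singleton_iff.2 hτz⟩ : ↥(centralizer ({z} : Set D))) *
        ⟨τ, mem_centralizer_singleton_iff.2 hτz⟩ = 1 := Subtype.ext hττ
    rw [h1, map_one]
  have hv1 : v ≠ 1 := by
    intro h1
    rw [← hv] at h1
    obtain ⟨i, hi | hi⟩ := hN.ker _ h1
    · have h2 : τ = x ^ i := hi
      have h3 := hN.sq_one (by norm_num) (i := i) (by rw [← h2, hττ])
      rw [h3] at h2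
      exact hτ1 h2
    · have h2 : τ = x ^ i * z := hi
      have h4 : x ^ i * x ^ i = 1 := by
        have h5 := hN.xzc i z
        calc x ^ i * x ^ i = x ^ i * x ^ i * (z * z) := by rw [hN.zz, mul_one]
          _ = x ^ i * (x ^ i * z) * z := by group
          _ = x ^ i * (z * x ^ i) * z := by rw [h5]
          _ = (x ^ i * z) * (x ^ i * z) := by group
          _ = 1 := by rw [← h2, hττ]
      rw [hN.sq_one (by norm_num) h4, one_mul] at h2
      exact hτne h2
  obtain ⟨k, hk⟩ : ∃ k, Nat.card ↥(N ⊓ centralizer ({τ} : Set D) : Subgroup D) = k := ⟨_, rfl⟩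
  have hkd : k ∣ 3 ^ 13 := hk ▸ (card_dvd_of_le inf_le_left).trans hNd
  rw [hk] at h14 ⊢
  obtain ⟨j, -, hj⟩ := (Nat.dvd_prime_pow Nat.prime_three).1 hkd
  rw [hj] at h14 ⊢
  rcases hA v hvv hv1 with h5 | h5
  · left
    rw [h5] at hm2 hm3
    have h6 : j ≤ 9 := by
      by_contra hcon
      apply h14
      have h7 : 3 ^ 4 ∣ 2 * m := (by norm_num : 3 ^ 4 ∣ 3317760).trans hm3
      refine Dvd.dvd.trans ?_ (mul_dvd_mul (pow_dvd_pow 3 (show 10 ≤ j by omega)) h7)
      norm_num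
    calc 3 ^ j * (2 * m) ∣ 3 ^ 9 * (2 * 3317760) := mul_dvd_mul (pow_dvd_pow 3 h6) (mul_dvd_mul_left 2 hm2)
      _ = _ := by norm_num
  · right
    rw [h5] at hm2 hm3
    have h6 : j ≤ 11 := by
      by_contra hcon
      apply h14
      have h7 : 3 ^ 2 ∣ 2 * m := (by norm_num : 3 ^ 2 ∣ 161280).trans hm3
      refine Dvd.dvd.trans ?_ (mul_dvd_mul (pow_dvd_pow 3 (show 12 ≤ j by omega)) h7)
      norm_num
    calc 3 ^ j * (2 * m) ∣ 3 ^ 11 * (2 * 161280) := mul_dvd_mul (pow_dvd_pow 3 h6) (mul_dvd_mul_left 2 hm2)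
      _ = _ := by norm_num

/-- **Fixed rank 0.** -/
theorem zero_dvd {y : centralizer ({KDone.K.z} : Set Mon)} (hy : orderOf y = 3)
    (hfr : fr (KChart.pi LThreeB.Row.cent y) = 1) {t : Mon}
    (hto : orderOf t = 2) (htz : ∀ g : Mon, g * t * g⁻¹ ≠ KDone.K.z) (hty : t * (y : Mon) = y * t)
    (h14 : ¬ 3 ^ 14 ∣ Nat.card ↥(XT (y : Mon) t)) :
    Nat.card ↥(XT (y : Mon) t) ∣ 2 * (3 ^ 9 * 3317760) ∨ Nat.card ↥(XT (y : Mon) t) ∣ 2 * (3 ^ 11 * 161280) := by
  have hfin : Finite Mon := MThirteen.Row.finite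
  have h := chart
  have hp : Fact (Nat.Prime 3) := ⟨Nat.prime_three⟩
  have htr := MThirteen.Row.trNe
  have hS : Spor.IsoSuz (XX (KChart.pi LThreeB.Row.cent y)) := CoOneFin.coOne.suz _ (orderOf_pi h hy) hfr
  have hcS : Nat.card (XX (KChart.pi LThreeB.Row.cent y)) = 448345497600 := by
    obtain ⟨e⟩ := hS
    rw [Nat.card_congr e.toEquiv]
    exact SporadicRecognition.SuzOrder.card_Suz
  have hs : IsSimpleGroup (XX (KChart.pi LThreeB.Row.cent y)) := by
    obtain ⟨e⟩ := hS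
    exact (MulEquiv.isSimpleGroup_congr e).2 Cfsg.Agent.S1694.result.1
  have hns : ¬ Group.IsSolvable (XX (KChart.pi LThreeB.Row.cent y)) :=
    H199.NSmMon.not_solvable hs hcS (by norm_num) (by norm_num)
  have hfS : Finite (XX (KChart.pi LThreeB.Row.cent y)) := Nat.finite_of_card_ne_zero (by rw [hcS]; norm_num)
  obtain ⟨N, hN⟩ := BpSpor.M5.exists_rad h (by norm_num) hy hfr (fun d hd hc => isolated h htr hy hfr d hd hc)
    hs (by rw [hcS]; decide)
  -- the order of `N`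
  have hNd : Nat.card ↥N ∣ 3 ^ 13 := by
    obtain ⟨m, hm, hcm⟩ := hN.card_N_mul hns
    have h1 := H199.AbMon.three_zero' hy hfr
    have h2 : Nat.card ↥N * (448345497600 * m) ∣ 3 ^ 13 * (448345497600 * 2) := by
      rw [hcS] at hcm
      rw [← hcm]
      exact h1
    have h3 : Nat.card ↥N ∣ 3 ^ 13 * 2 := by
      refine Nat.dvd_of_mul_dvd_mul_right (show 0 < 448345497600 by norm_num) ?_
      refine (Dvd.intro m (by ring)).trans (h2.trans (by norm_num))
    refine Nat.Coprime.dvd_of_dvd_mul_right ?_ h3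
    exact Nat.coprime_two_right.2 hN.oN
  have hXT : Nat.card ↥(XT (y : Mon) t) = Nat.card ↥(centralizer
      ({⟨t, mem_centralizer_singleton_iff.2 hty⟩} : Set ↥(centralizer ({(y : Mon)} : Set Mon)))) :=
    (Nat.card_congr (centXT' (⟨t, mem_centralizer_singleton_iff.2 hty⟩ : ↥(centralizer ({(y : Mon)} : Set Mon)))).toEquiv).symm
  rw [hXT] at h14 ⊢
  refine rad_dvd hns hN hNd (fun v hv hv1 => suz_card hS v hv hv1) (Subtype.ext ?_) ?_ ?_ h14
  · show t * t = 1
    rw [← pow_two, ← hto, pow_orderOf_eq_one]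
  · intro h1
    have h2 : t = 1 := congrArg Subtype.val h1
    rw [h2, orderOf_one] at hto
    omega
  · intro d h1
    exact htz (d : Mon) (congrArg Subtype.val h1)

end zero

/-! ### All elements of order three -/

/-- the bound -/
def Sm (n : ℕ) : Prop := n ∣ 2 * (3 ^ 9 * 3317760) ∨ n ∣ 2 * (3 ^ 11 * 161280) ∨ n ∣ 3 * 92897280

/-- involutions over conjugate involutions of `C(x) / ⟨x⟩` are conjugate -/
theorem isConj_of_mk {G : Type*} [Group G] {x s t : G} (hx : orderOf x = 3) (hs : s * x = x * s) (ht : t * x = x * t)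
    (hss : s * s = 1) (htt : t * t = 1) (h : IsConj (mk x hs) (mk x ht)) : IsConj s t := by
  obtain ⟨c, hc⟩ := isConj_iff.1 h
  obtain ⟨g, hg, rfl⟩ := exists_mk c
  have hg' : g⁻¹ * x = x * g⁻¹ := by
    rw [eq_mul_inv_iff_mul_eq, mul_assoc, ← hg]
    group
  have h1 : (g * s * g⁻¹) * x = x * (g * s * g⁻¹) := by
    rw [mul_assoc, hg', ← mul_assoc, mul_assoc g, hs, ← mul_assoc, ← mul_assoc, hg]
    group
  have h2 : mk x h1 = mk x ht := hc
  obtain ⟨i, hi⟩ := (mk_eq_mk h1 ht).1 h2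
  have h3 : (g * s * g⁻¹) * (g * s * g⁻¹) = 1 := by
    calc g * s * g⁻¹ * (g * s * g⁻¹) = g * (s * s) * g⁻¹ := by group
      _ = 1 := by rw [hss]; group
  obtain ⟨u, hu⟩ : ∃ u, g * s * g⁻¹ = u := ⟨_, rfl⟩
  rw [hu] at h1 h3 hi
  have h4 : u * x ^ i = x ^ i * u := ((show Commute u x from h1).zpow_right i).eq
  have h5 : x ^ i * x ^ i = 1 := by
    calc x ^ i * x ^ i = (u * u) * (x ^ i * x ^ i) := by rw [h3, one_mul]
      _ = u * (u * x ^ i) * x ^ i := by group
      _ = u * (x ^ i * u) * x ^ i := by rw [h4]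
      _ = (u * x ^ i) * (u * x ^ i) := by group
      _ = 1 := by rw [hi, htt]
  have h6 : (x ^ i) ^ 3 = 1 := by
    rw [← zpow_natCast, ← zpow_mul, mul_comm, zpow_mul, zpow_natCast, ← hx, pow_orderOf_eq_one, one_zpow]
  have h7 : x ^ i = 1 := by
    rw [pow_succ, pow_two, h5, one_mul] at h6
    exact h6
  rw [h7, mul_one] at hi
  exact isConj_iff.2 ⟨g, by rw [hu, hi]⟩

/-- **The Fischer type.** -/
theorem fi_type {y : centralizer ({KDone.K.z} : Set Mon)} (hy : orderOf y = 3)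
    (hfr : fr (KChart.pi LThreeB.Row.cent y) = 2 ^ 12) {x t k : Mon} (hk : k * (y : Mon) * k⁻¹ = x) (htt : t * t = 1)
    (ht1 : t ≠ 1) (htz : ¬ IsConj KDone.K.z t) (htx : t * x = x * t) : FiType t x := by
  have hfin : Finite Mon := MThirteen.Row.finite
  have hsim : IsSimpleGroup Mon := MThirteen.Row.simple
  have h := chart
  have I := CoOneFin.coOne
  obtain ⟨r, hr, hfs, hct, h4⟩ := I.psu
  obtain ⟨x₁, hx₁, hpx, c, hc⟩ := exists_conj_to h hy hr (by rw [hfr]; exact I.twelve) (by rw [hfs, hfr])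
  have hk' : (k * c) * (x₁ : Mon) * (k * c)⁻¹ = x := by
    rw [← hk, ← hc]
    group
  obtain ⟨φ, hφ⟩ := exists_XX_map hk'
  have hfr₁ : fr (KChart.pi LThreeB.Row.cent x₁) = 2 ^ 12 := by rw [hpx, hfs]
  have hct₁ : CTwelve (KChart.pi LThreeB.Row.cent x₁) := by rw [hpx]; exact hct
  obtain ⟨h1, h3⟩ := card_tt h hx₁ hfr₁ hct₁
  obtain ⟨e⟩ := iso_fi24 h hx₁ hfr₁ (by rw [hfr₁]; exact I.twelve) hct₁ (by rw [hpx]; exact h4)
  have h5 : Nat.card ↥(centralizer ({e (tt x₁)} : Set Spor.Fi24')) = 2 * (3265920 * 3) * 2 ^ 13 := by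
    rw [← LThreeB.card_centralizer_congr e, h3]
  set w : Mon := (k * c) * KDone.K.z * (k * c)⁻¹ with hw
  have hzz : KDone.K.z * KDone.K.z = 1 := h.large.z_sq
  have hww : w * w = 1 := by
    rw [hw]
    calc k * c * KDone.K.z * (k * c)⁻¹ * (k * c * KDone.K.z * (k * c)⁻¹) =
          k * c * (KDone.K.z * KDone.K.z) * (k * c)⁻¹ := by group
      _ = 1 := by rw [hzz]; group
  have hx₁z : (x₁ : Mon) * KDone.K.z = KDone.K.z * x₁ := mem_centralizer_singleton_iff.1 x₁.2
  have hwx : w * x = x * w := by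
    rw [hw, ← hk']
    calc k * c * KDone.K.z * (k * c)⁻¹ * (k * c * (x₁ : Mon) * (k * c)⁻¹) =
          k * c * (KDone.K.z * x₁) * (k * c)⁻¹ := by group
      _ = k * c * (x₁ * KDone.K.z) * (k * c)⁻¹ := by rw [hx₁z]
      _ = _ := by group
  have hwe : φ (mk x hwx) = tt x₁ := by
    have h6 : ((k * c)⁻¹ * w * (k * c)) = KDone.K.z := by rw [hw]; group
    rw [hφ w hwx (by rw [h6, hx₁z])]
    exact mk_congr _ _ h6
  have hx3 : orderOf x = 3 := by
    rw [← hk]
    exact (MulEquiv.orderOf_eq (MulAut.conj k) (y : Mon)).trans (by rw [Subgroup.orderOf_coe, hy])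
  have hmk : orderOf (mk x htx) = 2 := by
    have : Fact (Nat.Prime 2) := ⟨Nat.prime_two⟩
    refine orderOf_eq_prime ?_ ?_
    · rw [pow_two]
      have h6 : (t * t) * x = x * (t * t) := by rw [htt, one_mul, mul_one]
      show mk x h6 = 1
      rw [mk_eq_one]
      exact ⟨0, by rw [zpow_zero, htt]⟩
    · intro h6
      obtain ⟨i, hi⟩ := (mk_eq_one htx).1 h6
      have h7 : orderOf t ∣ 3 := by
        rw [← hi, ← hx3]
        exact orderOf_dvd_of_pow_eq_one (by
          rw [← zpow_natCast, ← zpow_mul, mul_comm, zpow_mul, zpow_natCast, pow_orderOf_eq_one, one_zpow])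
      have h8 : orderOf t ∣ 2 := orderOf_dvd_of_pow_eq_one (by rw [pow_two, htt])
      have h9 := Nat.dvd_gcd h7 h8
      rw [show Nat.gcd 3 2 = 1 by norm_num, Nat.dvd_one, orderOf_eq_one_iff] at h9
      exact ht1 h9
  let F : XX x ≃* Spor.Fi24' := φ.trans e
  rcases CTwoTab.FiTF.classes (F (mk x htx)) (by rw [MulEquiv.orderOf_eq, hmk]) with ⟨a, b, P, h6⟩ | ⟨g, hg⟩
  · exact ⟨htx, F, a, b, P, h6⟩
  · exfalso
    rcases CTwoTab.FiTF.classes (e (tt x₁)) (by rw [MulEquiv.orderOf_eq, h1]) with ⟨a, b, P, h6⟩ | ⟨g', hg'⟩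
    · have h7 := LThreeB.dvd_pair P h6
      rw [h5] at h7
      norm_num at h7
    · apply htz
      have h7 : IsConj (F (mk x hwx)) (F (mk x htx)) := by
        have h8 : F (mk x hwx) = e (tt x₁) := by
          show e (φ (mk x hwx)) = e (tt x₁)
          rw [hwe]
        rw [h8, hg', hg]
        exact isConj_iff.2 ⟨g * g'⁻¹, by group⟩
      have h8 : IsConj (mk x hwx) (mk x htx) := by
        have h9 := F.symm.toMonoidHom.map_isConj h7
        have e1 : F.symm.toMonoidHom (F (mk x hwx)) = mk x hwx := F.symm_apply_apply _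
        have e2 : F.symm.toMonoidHom (F (mk x htx)) = mk x htx := F.symm_apply_apply _
        rwa [e1, e2] at h9
      exact (isConj_iff.2 ⟨k * c, hw.symm⟩ : IsConj KDone.K.z w).trans (isConj_of_mk hx3 hwx htx hww htt h8)

/-- **`x` of order 3 in the Monster commuting with `t` of class 2A.** -/
theorem mon_three {x t : Mon} (hx : orderOf x = 3) (ht : LThreeB.Row.TA t) (hxt : x * t = t * x)
    (h14 : ¬ 3 ^ 14 ∣ Nat.card ↥(XT x t)) : Sm (Nat.card ↥(XT x t)) ∨ FiType t x := by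
  have hfin : Finite Mon := MThirteen.Row.finite
  have hsim : IsSimpleGroup Mon := MThirteen.Row.simple
  have h := chart
  have I := CoOneFin.coOne
  have hto := MThirteen.Row.ta_order ht
  have htt : t * t = 1 := by rw [← pow_two, ← hto, pow_orderOf_eq_one]
  have ht1 : t ≠ 1 := by
    rintro rfl
    rw [orderOf_one] at hto
    omega
  have htz : ¬ IsConj KDone.K.z t := by
    intro h1
    obtain ⟨c, hc⟩ := isConj_iff.1 h1
    exact MThirteen.Row.ta_ne ht c⁻¹ (by rw [← hc]; group)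
  obtain ⟨g, hg, -⟩ := LThreeM.FiRow.exists_z_in (x := x) (v := t) (by rw [← hx, pow_orderOf_eq_one]) ht hxt
  have h1 : (g⁻¹ * x * g⁻¹⁻¹) * KDone.K.z = KDone.K.z * (g⁻¹ * x * g⁻¹⁻¹) := by
    calc (g⁻¹ * x * g⁻¹⁻¹) * KDone.K.z = g⁻¹ * (x * (g * KDone.K.z * g⁻¹)) * g := by group
      _ = g⁻¹ * ((g * KDone.K.z * g⁻¹) * x) * g := by rw [hg]
      _ = KDone.K.z * (g⁻¹ * x * g⁻¹⁻¹) := by group
  have hXT := card_XT_conj g⁻¹ x t
  obtain ⟨y, hyx⟩ : ∃ y : centralizer ({KDone.K.z} : Set Mon), (y : Mon) = g⁻¹ * x * g⁻¹⁻¹ :=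
    ⟨⟨g⁻¹ * x * g⁻¹⁻¹, mem_centralizer_singleton_iff.2 h1⟩, rfl⟩
  have hy : orderOf y = 3 := by
    rw [← Subgroup.orderOf_coe, hyx, ← hx]
    exact MulEquiv.orderOf_eq (MulAut.conj g⁻¹) x
  have hy' : orderOf (y : Mon) = 3 := by rw [Subgroup.orderOf_coe, hy]
  set t' : Mon := g⁻¹ * t * g⁻¹⁻¹ with ht'
  have hto' : orderOf t' = 2 := by
    rw [← hto]
    exact MulEquiv.orderOf_eq (MulAut.conj g⁻¹) t
  have htz' : ∀ g' : Mon, g' * t' * g'⁻¹ ≠ KDone.K.z := by
    intro g' hg'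
    refine MThirteen.Row.ta_ne ht (g' * g⁻¹) ?_
    rw [← hg', ht']
    group
  have hyt : (y : Mon) * t' = t' * y := by
    rw [hyx]
    exact LThreeB.conj_comm' hxt
  rw [← hyx] at hXT
  rw [← hXT] at h14 ⊢
  rcases I.ranks (KChart.pi LThreeB.Row.cent y) (orderOf_pi h hy) with h2 | h2 | h2 | h2
  · left
    rcases zero_dvd hy h2 hto' htz' hyt.symm h14 with h3 | h3
    · exact Or.inl h3
    · exact Or.inr (Or.inl h3)
  · left
    obtain ⟨x₀, u, g₀, hx₀, hfr₀, huz, hux, hne, hg₀⟩ := MThirteen.Row.hasPair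
    obtain ⟨k, hk⟩ := conj_six h MThirteen.Row.trNe I.ranks I.six
      (fun x hx h2 => ⟨(good_of_inputs h I hx h2 : Good.{0} _).simple, (good_of_inputs h I hx h2 : Good.{0} _).nc⟩)
      hx₀ hfr₀ huz hux hne hg₀ hy h2
    have h5 := card_XT_conj k (y : Mon) t'
    rw [hk] at h5
    rw [← h5] at h14 ⊢
    rcases zero_dvd (t := k * t' * k⁻¹) hx₀ hfr₀ (by rw [← hto']; exact MulEquiv.orderOf_eq (MulAut.conj k) t')
      (fun g' hg' => htz' (g' * k) (by rw [← hg']; group)) (by rw [← hk]; exact LThreeB.conj_comm' hyt.symm) h14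
      with h3 | h3
    · exact Or.inl h3
    · exact Or.inr (Or.inl h3)
  · left
    obtain ⟨e⟩ := LThreeB.isoTh_of_inputs h I hy h2
    obtain ⟨τ, hτ, hd⟩ := card_XT_dvd Nat.prime_three (by norm_num) hy' hto' hyt
    rw [LThreeB.card_centralizer_congr e, card_inv_th (by rw [MulEquiv.orderOf_eq, hτ])] at hd
    exact Or.inr (Or.inr hd)
  · right
    exact fi_type hy h2 (k := g) (by rw [hyx]; group) htt ht1 htz hxt.symm

/-! ### The Baby Monster -/

/-- orders with bounded 3-part -/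
theorem dvd_nine {n c : ℕ} {a : ℕ} (hn : n ∣ 3 ^ a * c) (h : ¬ 3 ^ 10 ∣ n) : n ∣ 3 ^ 9 * c := by
  rcases Nat.eq_zero_or_pos n with rfl | hn0
  · exact absurd (dvd_zero _) h
  obtain ⟨v, w, hw, hnw⟩ := Nat.exists_eq_pow_mul_and_not_dvd hn0.ne' 3 (by norm_num)
  have hv : v ≤ 9 := by
    by_contra hcon
    exact h (hnw ▸ (pow_dvd_pow 3 (show 10 ≤ v by omega)).mul_right w)
  have hwc : w ∣ c := by
    have h1 : w ∣ 3 ^ a * c := (hnw ▸ Dvd.intro_left (3 ^ v) rfl : w ∣ n).trans hn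
    refine Nat.Coprime.dvd_of_dvd_mul_left ?_ h1
    exact (Nat.Coprime.pow_right a ((Nat.prime_three.coprime_iff_not_dvd.2 hw).symm))
  rw [hnw]
  exact mul_dvd_mul (pow_dvd_pow 3 hv) hwc

section

variable {L : Type u} [Group L] [Finite L]

/-- **The centralizers of the elements of order three of `B`**, for a cover. -/
theorem cover_three (h : Spor.IsoB L) {t₀ : Mon} (ht : LThreeB.Row.TA t₀)
    (h2 : Nat.card ↥(center ↥(centralizer ({t₀} : Set Mon))) = 2)
    (e : ↥(centralizer ({t₀} : Set Mon)) ⧸ center ↥(centralizer ({t₀} : Set Mon)) ≃* L)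
    {x : ↥(centralizer ({t₀} : Set Mon))} (hx : orderOf x = 3) :
    (Nat.card ↥(centralizer ({e (QuotientGroup.mk x)} : Set L)) ∣ 3 ^ 9 * 3317760 ∨
      Nat.card ↥(centralizer ({e (QuotientGroup.mk x)} : Set L)) ∣ 3 ^ 11 * 161280 ∨
      Nat.card ↥(centralizer ({e (QuotientGroup.mk x)} : Set L)) ∣ 3 * 46448640) ∨ FiType t₀ (x : Mon) := by
  have hfin : Finite Mon := MThirteen.Row.finite
  have hN := NotCT.Orders.b h
  have h3 := card_cent h2 e Nat.prime_three (by norm_num) hx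
  rw [← Nat.card_congr (centXT x).toEquiv] at h3
  obtain ⟨n, hn⟩ : ∃ n, Nat.card ↥(centralizer ({e (QuotientGroup.mk x)} : Set L)) = n := ⟨_, rfl⟩
  have hnd : n ∣ 4154781481226426191177580544000000 := by
    rw [← hn, ← hN]
    exact Subgroup.card_subgroup_dvd_card _
  rw [hn] at h3 ⊢
  rcases mon_three (x := (x : Mon)) (t := t₀) (by rw [Subgroup.orderOf_coe, hx]) ht
    (mem_centralizer_singleton_iff.1 x.2) (by
      rw [h3]
      intro h4
      have h5 : 3 ^ 14 ∣ n := Nat.Coprime.dvd_of_dvd_mul_right (by norm_num) h4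
      have h6 := h5.trans hnd
      norm_num at h6) with h4 | h4
  · left
    rw [h3, mul_comm] at h4
    rcases h4 with h4 | h4 | h4
    · exact Or.inl (Nat.dvd_of_mul_dvd_mul_left (by norm_num) h4)
    · exact Or.inr (Or.inl (Nat.dvd_of_mul_dvd_mul_left (by norm_num) h4))
    · refine Or.inr (Or.inr (Nat.dvd_of_mul_dvd_mul_left (show 0 < 2 by norm_num) (h4.trans ?_)))
      norm_num
  · exact Or.inr h4

/-- **The centralizers of the elements of order three of `B`.** -/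
theorem three_dvd (h : Spor.IsoB L) {s : L} (hs : orderOf s = 3) :
    (Nat.card ↥(centralizer ({s} : Set L)) ∣ 3 ^ 9 * 3317760 ∨
      Nat.card ↥(centralizer ({s} : Set L)) ∣ 3 ^ 11 * 161280 ∨
      Nat.card ↥(centralizer ({s} : Set L)) ∣ 3 * 46448640) ∨ FiB s := by
  have hfin : Finite Mon := MThirteen.Row.finite
  obtain ⟨t, ht, h2, ⟨e⟩⟩ := exists_cover h
  obtain ⟨a, ha, ha'⟩ := exists_lift h2 Nat.prime_three (by norm_num) (x := e.symm s) (by rw [MulEquiv.orderOf_eq, hs])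
  have hse : e (QuotientGroup.mk a) = s := by rw [ha', e.apply_symm_apply]
  have h3 := cover_three h ht h2 e ha
  rw [hse] at h3
  rcases h3 with h3 | h3
  · exact Or.inl h3
  · exact Or.inr ⟨t, ht, h2, e, a, ha, hse, h3⟩

/-- **Elements of order three**: `|C(s)| ≤ 65303470080` or type 3A. -/
theorem three_le (h : Spor.IsoB L) {s : L} (hs : orderOf s = 3) :
    Nat.card ↥(centralizer ({s} : Set L)) ≤ 65303470080 ∨ FiB s := by
  rcases three_dvd h hs with (h1 | h1 | h1) | h1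
  · exact Or.inl ((Nat.le_of_dvd (by norm_num) h1).trans (by norm_num))
  · exact Or.inl ((Nat.le_of_dvd (by norm_num) h1).trans (by norm_num))
  · exact Or.inl ((Nat.le_of_dvd (by norm_num) h1).trans (by norm_num))
  · exact Or.inr h1

/-- **Subgroups of `C(s) ∩ C(u)`**, `u` an involution: order at most `806215680`, or `s` of type 3A. -/
theorem sub_le (h : Spor.IsoB L) {s u : L} (hs : orderOf s = 3) (hu : orderOf u = 2) {H : Subgroup L}
    (hHs : H ≤ centralizer ({s} : Set L)) (hHu : H ≤ centralizer ({u} : Set L)) :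
    Nat.card ↥H ≤ 806215680 ∨ FiB s := by
  have h10 : ¬ 3 ^ 10 ∣ Nat.card ↥H := fun h3 => BInv.not_three_B h hu (h3.trans (card_dvd_of_le hHu))
  have hd := card_dvd_of_le hHs
  rcases three_dvd h hs with (h1 | h1 | h1) | h1
  · left
    have h2 : Nat.card ↥H ∣ 3 ^ 13 * 40960 := (hd.trans h1).trans (by norm_num)
    exact (Nat.le_of_dvd (by norm_num) (dvd_nine h2 h10)).trans (by norm_num)
  · left
    have h2 : Nat.card ↥H ∣ 3 ^ 13 * 17920 := (hd.trans h1).trans (by norm_num)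
    exact (Nat.le_of_dvd (by norm_num) (dvd_nine h2 h10)).trans (by norm_num)
  · left
    exact (Nat.le_of_dvd (by norm_num) (hd.trans h1)).trans (by norm_num)
  · exact Or.inr h1

/-- **Elements `g` of order divisible by 6.** -/
theorem cent_six (h : Spor.IsoB L) {g : L} (h6 : 6 ∣ orderOf g) :
    Nat.card ↥(centralizer ({g} : Set L)) ≤ 806215680 ∨ FiB (g ^ (orderOf g / 3)) := by
  have h0 : orderOf g ≠ 0 := (orderOf_pos g).ne'
  have h3 : 3 ∣ orderOf g := (by norm_num : 3 ∣ 6).trans h6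
  have h2 : 2 ∣ orderOf g := (by norm_num : 2 ∣ 6).trans h6
  refine sub_le h (s := g ^ (orderOf g / 3)) (u := g ^ (orderOf g / 2)) ?_ ?_ ?_ ?_
  · rw [orderOf_pow_orderOf_div h0 h3]
  · rw [orderOf_pow_orderOf_div h0 h2]
  · intro y hy
    rw [mem_centralizer_singleton_iff] at hy ⊢
    exact ((show Commute y g from hy).pow_right _).eq
  · intro y hy
    rw [mem_centralizer_singleton_iff] at hy ⊢
    exact ((show Commute y g from hy).pow_right _).eq

end

end Cfsg.Agent.H844.Ore.BThree
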