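import Cfsg.Agent.H844.Ore.BThree
import Cfsg.Agent.LThreeCo1.Ranks

/-!
# Row B of Ore: the elements of order three of the Baby Monster (helper844)

* `mon_real` : `x` of order 3 in the Monster commuting with `t` of class 2A: an element commuting with `t` inverts `x`, or
  `x` commutes with an involution `w` conjugate to `z` with `w t` of class 2A, or `|C(x) ∩ C(t)|` divides `3 · 92897280`, or
  `FiType t x`;
* `three_real` : the same for the Baby Monster.
-/

set_option autoImplicit false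
set_option maxRecDepth 100000
set_option linter.unusedSectionVars false

namespace Cfsg.Agent.H844.Ore.BReal

open Cfsg Cfsg.Agent Cfsg.Agent.MonsterX Cfsg.Agent.MonsterX.InstData Cfsg.Agent.MonsterX.MainPack Cfsg.Agent.MonsterU
open Cfsg.Agent.MonsterP Cfsg.Agent.MonsterN Cfsg.Agent.LThree Cfsg.Agent.LThreeMB
open Cfsg.Agent.MonsterX.MainBasic Cfsg.Agent.MonsterX.MainSimple Cfsg.Agent.MonsterX.Model
open Cfsg.Agent.LThreeB (XT mem_XT centXT centXT' conjXT)
open Subgroup (centralizer mem_centralizer_singleton_iff center card_dvd_of_le zpowers)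
open Cfsg.Spor (Co1)
open Cfsg.Agent.H979.BAdj Cfsg.Agent.H979.CovLift Cfsg.Agent.H979.OddB
open Cfsg.Agent.H630.NH Cfsg.Agent.H241.NH Cfsg.Agent.H630.Baby
open Cfsg.Agent.BpSpor.M5 Cfsg.Agent.H844.Ore.BThree

universe u v

/-- **Conjugacy of the images of `τ` under an automorphism inverting `x`.** -/
theorem abs_real {D : Type u} [Group D] [Finite D] {z x : D} {N : Subgroup D} {A : Type v} [Group A] [Finite A]
    [IsSimpleGroup A] {f : ↥(centralizer ({z} : Set D)) →* A} (hns : ¬ Group.IsSolvable A) (h : Rad 3 z x N f)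
    (hA : ∀ v w : A, v * v = 1 → v ≠ 1 → w * w = 1 → w ≠ 1 →
      Nat.card ↥(centralizer ({v} : Set A)) = Nat.card ↥(centralizer ({w} : Set A)) → IsConj v w)
    (β : D ≃* D) (hz : β z = z) (hx : β x = x⁻¹) {τ : D} (hττ : τ * τ = 1) (hτ1 : τ ≠ 1) (hτz : τ * z = z * τ)
    (hne : τ ≠ z) : ∃ c : D, c * z = z * c ∧ (c * β τ * c⁻¹ = τ ∨ c * β τ * c⁻¹ = τ * z) := by
  have hp : Fact (Nat.Prime 3) := ⟨Nat.prime_three⟩
  have fz : f ⟨z, mem_centralizer_singleton_iff.2 rfl⟩ = 1 :=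
    h.f_central hns fun g => Subtype.ext (mem_centralizer_singleton_iff.1 g.2)
  have fx : f ⟨x, mem_centralizer_singleton_iff.2 (h.xc z).symm⟩ = 1 :=
    h.f_central hns fun g => Subtype.ext (h.xc g)
  have hβc : ∀ {c : D}, c * z = z * c → β c * z = z * β c := by
    intro c hc
    have h1 := congrArg β hc
    rwa [map_mul, map_mul, hz] at h1
  have hβc' : ∀ {c : D}, c * z = z * c → β.symm c * z = z * β.symm c := by
    intro c hc
    have hz' : β.symm z = z := by rw [MulEquiv.symm_apply_eq, hz]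
    have h1 := congrArg β.symm hc
    rwa [map_mul, map_mul, hz'] at h1
  let b : ↥(centralizer ({z} : Set D)) →* ↥(centralizer ({z} : Set D)) :=
    { toFun := fun c => ⟨β (c : D), mem_centralizer_singleton_iff.2 (hβc (mem_centralizer_singleton_iff.1 c.2))⟩
      map_one' := Subtype.ext (map_one β)
      map_mul' := fun c d => Subtype.ext (map_mul β (c : D) (d : D)) }
  have hb : Function.Surjective b := by
    intro c
    refine ⟨⟨β.symm (c : D), mem_centralizer_singleton_iff.2 (hβc' (mem_centralizer_singleton_iff.1 c.2))⟩, ?_⟩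
    exact Subtype.ext (β.apply_symm_apply (c : D))
  have hfx : ∀ i : ℤ, ∀ hi : x ^ i ∈ centralizer ({z} : Set D), f ⟨x ^ i, hi⟩ = 1 := by
    intro i hi
    have e : (⟨x ^ i, hi⟩ : ↥(centralizer ({z} : Set D))) =
        ⟨x, mem_centralizer_singleton_iff.2 (h.xc z).symm⟩ ^ i := Subtype.ext rfl
    rw [e, map_zpow, fx, one_zpow]
  have hk : f.ker ≤ (f.comp b).ker := by
    intro c hc
    rw [MonoidHom.mem_ker]
    show f (b c) = 1
    obtain ⟨i, hi | hi⟩ := h.ker c (MonoidHom.mem_ker.1 hc)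
    · have e : (b c : D) = x ^ (-i) := by
        show β (c : D) = _
        rw [hi, map_zpow, hx, inv_zpow, zpow_neg]
      have e' : b c = ⟨x ^ (-i), e ▸ (b c).2⟩ := Subtype.ext e
      rw [e', hfx]
    · have e : (b c : D) = x ^ (-i) * z := by
        show β (c : D) = _
        rw [hi, map_mul, map_zpow, hx, hz, inv_zpow, zpow_neg]
      have e' : b c = ⟨x ^ (-i), mem_centralizer_singleton_iff.2 (h.xzc _ z).symm⟩ *
          ⟨z, mem_centralizer_singleton_iff.2 rfl⟩ := Subtype.ext e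
      rw [e', map_mul, hfx, fz, one_mul]
  obtain ⟨γ, hγ⟩ : ∃ γ : A →* A, ∀ c, γ (f c) = f (b c) :=
    ⟨f.liftOfSurjective h.surj ⟨f.comp b, hk⟩, fun c => f.liftOfRightInverse_comp_apply _ _ ⟨f.comp b, hk⟩ c⟩
  have hγs : Function.Surjective γ := by
    intro a
    obtain ⟨c, hc⟩ := h.surj a
    obtain ⟨d, hd⟩ := hb c
    exact ⟨f d, by rw [hγ, hd, hc]⟩
  let γ' : A ≃* A := MulEquiv.ofBijective γ ⟨Finite.injective_iff_surjective.2 hγs, hγs⟩
  set T : ↥(centralizer ({z} : Set D)) := ⟨τ, mem_centralizer_singleton_iff.2 hτz⟩ with hT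
  have hTT : T * T = 1 := Subtype.ext hττ
  have h6 : ∀ i : ℤ, ∀ w : D, w * w = 1 → x ^ i * w * (x ^ i * w) = 1 → x ^ i = 1 := by
    intro i w hw h7
    apply h.sq_one (by norm_num)
    calc x ^ i * x ^ i = x ^ i * x ^ i * (w * w) := by rw [hw, mul_one]
      _ = x ^ i * (x ^ i * w) * w := by group
      _ = x ^ i * (w * x ^ i) * w := by rw [h.xzc i w]
      _ = x ^ i * w * (x ^ i * w) := by group
      _ = 1 := h7
  have hv : f T * f T = 1 := by rw [← map_mul, hTT, map_one]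
  have hv1 : f T ≠ 1 := by
    intro h1
    obtain ⟨i, hi | hi⟩ := h.ker T h1
    · have h2 : τ = x ^ i := hi
      have h3 := h6 i 1 (one_mul 1) (by rw [mul_one, ← h2, hττ])
      exact hτ1 (by rw [h2, h3])
    · have h2 : τ = x ^ i * z := hi
      have h3 := h6 i z h.zz (by rw [← h2, hττ])
      exact hne (by rw [h2, h3, one_mul])
  have hcard : Nat.card ↥(centralizer ({γ (f T)} : Set A)) = Nat.card ↥(centralizer ({f T} : Set A)) :=
    (LThreeB.card_centralizer_congr γ' (f T)).symm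
  have hconj : IsConj (γ (f T)) (f T) := by
    refine hA _ _ ?_ ?_ hv hv1 hcard
    · rw [← map_mul, hv, map_one]
    · intro h1
      exact hv1 (γ'.injective (by rw [map_one]; exact h1))
  obtain ⟨a, ha⟩ := isConj_iff.1 hconj
  obtain ⟨c, rfl⟩ := h.surj a
  have hcz : (c : D) * z = z * c := mem_centralizer_singleton_iff.1 c.2
  have h1 : f (c * b T * c⁻¹ * T⁻¹) = 1 := by
    rw [map_mul, map_mul, map_mul, map_inv, map_inv, ← hγ, ha, mul_inv_cancel]
  have h5 : ((c : D) * β τ * (c : D)⁻¹) * ((c : D) * β τ * (c : D)⁻¹) = 1 := by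
    calc (c : D) * β τ * (c : D)⁻¹ * ((c : D) * β τ * (c : D)⁻¹) = (c : D) * (β τ * β τ) * (c : D)⁻¹ := by group
      _ = 1 := by rw [← map_mul, hττ, map_one]; group
  refine ⟨c, hcz, ?_⟩
  obtain ⟨i, hi | hi⟩ := h.ker _ h1
  · left
    have h3 : (c : D) * β τ * (c : D)⁻¹ * τ⁻¹ = x ^ i := hi
    have h4 : (c : D) * β τ * (c : D)⁻¹ = x ^ i * τ := by rw [← h3]; group
    rw [h4] at h5 ⊢
    rw [h6 i τ hττ h5, one_mul]
  · right
    have h3 : (c : D) * β τ * (c : D)⁻¹ * τ⁻¹ = x ^ i * z := hi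
    have h4 : (c : D) * β τ * (c : D)⁻¹ = x ^ i * (z * τ) := by
      calc (c : D) * β τ * (c : D)⁻¹ = (c : D) * β τ * (c : D)⁻¹ * τ⁻¹ * τ := by group
        _ = _ := by rw [h3, mul_assoc]
    have hzt : z * τ * (z * τ) = 1 := by
      calc z * τ * (z * τ) = z * (τ * z) * τ := by group
        _ = z * (z * τ) * τ := by rw [hτz]
        _ = (z * z) * (τ * τ) := by group
        _ = 1 := by rw [h.zz, hττ, one_mul]
    rw [h4] at h5 ⊢
    rw [h6 i (z * τ) hzt h5, one_mul, hτz]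

/-- the involutions of `Suz` are conjugate if the orders of the centralizers agree -/
theorem suz_conj {X : Type u} [Group X] (h : Spor.IsoSuz X) (v w : X) (hv : v * v = 1) (hv1 : v ≠ 1) (hw : w * w = 1)
    (hw1 : w ≠ 1) (hc : Nat.card ↥(centralizer ({v} : Set X)) = Nat.card ↥(centralizer ({w} : Set X))) : IsConj v w := by
  obtain ⟨e⟩ := h
  rw [LThreeB.card_centralizer_congr e, LThreeB.card_centralizer_congr e w] at hc
  have key : IsConj (e v) (e w) → IsConj v w := by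
    intro h1
    have h2 := e.symm.toMonoidHom.map_isConj h1
    have e1 : e.symm.toMonoidHom (e v) = v := e.symm_apply_apply _
    have e2 : e.symm.toMonoidHom (e w) = w := e.symm_apply_apply _
    rwa [e1, e2] at h2
  apply key
  rcases CTwoTab.Suz.classes (t := e v) (by rw [← map_mul, hv, map_one])
    (fun h1 => hv1 (e.injective (by rw [h1, map_one]))) with h2 | h2 <;>
  rcases CTwoTab.Suz.classes (t := e w) (by rw [← map_mul, hw, map_one])
    (fun h1 => hw1 (e.injective (by rw [h1, map_one]))) with h3 | h3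
  · exact h2.symm.trans h3
  · exfalso
    rw [← MThirteen.card_cent_conj h2, ← MThirteen.card_cent_conj h3, SuzThree.CentCard.card_C1,
      KFacts.SuzTwoB.card_CE] at hc
    norm_num at hc
  · exfalso
    rw [← MThirteen.card_cent_conj h2, ← MThirteen.card_cent_conj h3, SuzThree.CentCard.card_C1,
      KFacts.SuzTwoB.card_CE] at hc
    norm_num at hc
  · exact h2.symm.trans h3

theorem fr_inv (s : Co1) : fr s⁻¹ = fr s := by
  apply Nat.card_congr
  refine Equiv.subtypeEquivRight fun v => ?_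
  rw [inv_smul_eq_iff]
  exact ⟨fun h => h.symm, fun h => h.symm⟩

/-- `w` is conjugate to `z`, commutes with `x` and `t`, and `w t` is of class 2A. -/
def Two (x t : Mon) : Prop :=
  ∃ w : Mon, w * w = 1 ∧ IsConj KDone.K.z w ∧ w * x = x * w ∧ w * t = t * w ∧ LThreeB.Row.TA (w * t)

/-- an element commuting with `t` inverts `x`. -/
def Inv (x t : Mon) : Prop := ∃ b : Mon, b * t = t * b ∧ b * x * b⁻¹ = x⁻¹

theorem Two.conj {x t : Mon} (k : Mon) (h : Two (k * x * k⁻¹) (k * t * k⁻¹)) : Two x t := by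
  obtain ⟨w, hww, hzw, hwx, hwt, hta⟩ := h
  have e : ∀ {a : Mon}, w * (k * a * k⁻¹) = k * a * k⁻¹ * w → (k⁻¹ * w * k) * a = a * (k⁻¹ * w * k) := by
    intro a ha
    calc k⁻¹ * w * k * a = k⁻¹ * (w * (k * a * k⁻¹)) * k := by group
      _ = k⁻¹ * (k * a * k⁻¹ * w) * k := by rw [ha]
      _ = _ := by group
  refine ⟨k⁻¹ * w * k, ?_, hzw.trans (isConj_iff.2 ⟨k⁻¹, by rw [inv_inv]⟩), e hwx, e hwt, ?_⟩
  · calc k⁻¹ * w * k * (k⁻¹ * w * k) = k⁻¹ * (w * w) * k := by group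
      _ = 1 := by rw [hww]; group
  · refine IsConj.trans hta (isConj_iff.2 ⟨k⁻¹, ?_⟩)
    group

theorem Inv.conj {x t : Mon} (k : Mon) (h : Inv (k * x * k⁻¹) (k * t * k⁻¹)) : Inv x t := by
  obtain ⟨b, hbt, hbx⟩ := h
  refine ⟨k⁻¹ * b * k, ?_, ?_⟩
  · calc k⁻¹ * b * k * t = k⁻¹ * (b * (k * t * k⁻¹)) * k := by group
      _ = k⁻¹ * (k * t * k⁻¹ * b) * k := by rw [hbt]
      _ = _ := by group
  · calc k⁻¹ * b * k * x * (k⁻¹ * b * k)⁻¹ = k⁻¹ * (b * (k * x * k⁻¹) * b⁻¹) * k := by group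
      _ = k⁻¹ * (k * x * k⁻¹)⁻¹ * k := by rw [hbx]
      _ = x⁻¹ := by group

/-- conjugation on `C(y)` by an element inverting `y` -/
def conjInv {G : Type*} [Group G] {y b : G} (h : b * y * b⁻¹ = y⁻¹) :
    ↥(centralizer ({y} : Set G)) ≃* ↥(centralizer ({y} : Set G)) where
  toFun c := ⟨b * c * b⁻¹, mem_centralizer_singleton_iff.2 (by
    have hc : (c : G) * y = y * c := mem_centralizer_singleton_iff.1 c.2
    have h1 : y = b * y⁻¹ * b⁻¹ := by
      calc y = (y⁻¹)⁻¹ := (inv_inv y).symm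
        _ = (b * y * b⁻¹)⁻¹ := by rw [h]
        _ = _ := by group
    have hc' : (c : G) * y⁻¹ = y⁻¹ * c := ((show Commute (c : G) y from hc).inv_right).eq
    have h2 : b * (c : G) * b⁻¹ * (b * y⁻¹ * b⁻¹) = b * y⁻¹ * b⁻¹ * (b * c * b⁻¹) := by
      calc b * (c : G) * b⁻¹ * (b * y⁻¹ * b⁻¹) = b * (c * y⁻¹) * b⁻¹ := by group
        _ = b * (y⁻¹ * c) * b⁻¹ := by rw [hc']
        _ = _ := by group
    rwa [← h1] at h2)⟩
  invFun c := ⟨b⁻¹ * c * b, mem_centralizer_singleton_iff.2 (by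
    have hc : (c : G) * y = y * c := mem_centralizer_singleton_iff.1 c.2
    have h1 : y = b⁻¹ * y⁻¹ * b := by
      rw [← h]
      group
    have hc' : (c : G) * y⁻¹ = y⁻¹ * c := ((show Commute (c : G) y from hc).inv_right).eq
    have h2 : b⁻¹ * (c : G) * b * (b⁻¹ * y⁻¹ * b) = b⁻¹ * y⁻¹ * b * (b⁻¹ * c * b) := by
      calc b⁻¹ * (c : G) * b * (b⁻¹ * y⁻¹ * b) = b⁻¹ * (c * y⁻¹) * b := by group
        _ = b⁻¹ * (y⁻¹ * c) * b := by rw [hc']
        _ = _ := by group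
    rwa [← h1] at h2)⟩
  left_inv c := Subtype.ext (by show b⁻¹ * (b * (c : G) * b⁻¹) * b = c; group)
  right_inv c := Subtype.ext (by show b * (b⁻¹ * (c : G) * b) * b⁻¹ = c; group)
  map_mul' c d := Subtype.ext (by
    show b * ((c : G) * d) * b⁻¹ = b * c * b⁻¹ * (b * d * b⁻¹)
    group)

/-- the abstract statement in `G`, `D = C(y)` -/
theorem rad_real {G : Type u} [Group G] [Finite G] {z y : G} {z' : ↥(centralizer ({y} : Set G))} (hz' : (z' : G) = z)
    {N : Subgroup ↥(centralizer ({y} : Set G))} {A : Type v} [Group A] [Finite A] [IsSimpleGroup A]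
    {f : ↥(centralizer ({z'} : Set ↥(centralizer ({y} : Set G)))) →* A} (hns : ¬ Group.IsSolvable A)
    (h : Rad 3 z' (self y) N f)
    (hA : ∀ v w : A, v * v = 1 → v ≠ 1 → w * w = 1 → w ≠ 1 →
      Nat.card ↥(centralizer ({v} : Set A)) = Nat.card ↥(centralizer ({w} : Set A)) → IsConj v w)
    {b : G} (hbz : b * z = z * b) (hby : b * y * b⁻¹ = y⁻¹) {t : G} (htt : t * t = 1) (ht1 : t ≠ 1)
    (hty : t * y = y * t) (htz : ∀ d : G, d * t * d⁻¹ ≠ z) :
    (∃ c : G, c * t = t * c ∧ c * y * c⁻¹ = y⁻¹) ∨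
      ∃ w k : G, k * z * k⁻¹ = w ∧ w * y = y * w ∧ w * t = t * w ∧ IsConj t (w * t) := by
  have hp : Fact (Nat.Prime 3) := ⟨Nat.prime_three⟩
  obtain ⟨d, hd⟩ := BThree.exists_conj_mem (centralizer ({z'} : Set ↥(centralizer ({y} : Set G)))) (index_odd h)
    (t := (⟨t, mem_centralizer_singleton_iff.2 hty⟩ : ↥(centralizer ({y} : Set G)))) (Subtype.ext htt)
  obtain ⟨τ, hτ⟩ : ∃ τ, d * ⟨t, mem_centralizer_singleton_iff.2 hty⟩ * d⁻¹ = τ := ⟨_, rfl⟩
  rw [hτ] at hd
  have hτG : (d : G) * t * (d : G)⁻¹ = τ := congrArg Subtype.val hτ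
  have hτz : τ * z' = z' * τ := mem_centralizer_singleton_iff.1 hd
  have hττ : τ * τ = 1 := Subtype.ext (by
    show (τ : G) * τ = 1
    rw [← hτG]
    calc (d : G) * t * (d : G)⁻¹ * (d * t * (d : G)⁻¹) = d * (t * t) * (d : G)⁻¹ := by group
      _ = 1 := by rw [htt]; group)
  have hτ1 : τ ≠ 1 := by
    intro h1
    have h2 : (τ : G) = 1 := congrArg Subtype.val h1
    rw [← hτG, conj_eq_one_iff] at h2
    exact ht1 h2
  have hτne : τ ≠ z' := by
    intro h1
    have h2 : (τ : G) = z := by rw [h1, hz']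
    rw [← hτG] at h2
    exact htz d h2
  have hdy : (d : G) * y = y * d := mem_centralizer_singleton_iff.1 d.2
  have htd : t = (d : G)⁻¹ * τ * d := by rw [← hτG]; group
  obtain ⟨c, hcz, hc | hc⟩ := abs_real hns h hA (conjInv hby) (Subtype.ext (by
      show b * (z' : G) * b⁻¹ = z'
      rw [hz', hbz]
      group)) (Subtype.ext hby) hττ hτ1 hτz hτne
  · left
    have hcG : (c : G) * (b * τ * b⁻¹) * (c : G)⁻¹ = τ := congrArg Subtype.val hc
    have hcy : (c : G) * y = y * c := mem_centralizer_singleton_iff.1 c.2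
    have e1 : (c : G) * b * τ = τ * (c * b) := by
      calc (c : G) * b * τ = (c * (b * τ * b⁻¹) * (c : G)⁻¹) * (c * b) := by group
        _ = τ * (c * b) := by rw [hcG]
    have e2 : ∀ {k : G}, k * y = y * k → ∀ {m : G}, m * y * m⁻¹ = y⁻¹ → (k * m) * y * (k * m)⁻¹ = y⁻¹ := by
      intro k hk m hm
      have hk' : k * y⁻¹ = y⁻¹ * k := ((show Commute k y from hk).inv_right).eq
      calc (k * m) * y * (k * m)⁻¹ = k * (m * y * m⁻¹) * k⁻¹ := by group
        _ = y⁻¹ := by rw [hm, hk']; group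
    refine ⟨(d : G)⁻¹ * (c * b) * d, ?_, ?_⟩
    · rw [htd]
      calc (d : G)⁻¹ * (c * b) * d * ((d : G)⁻¹ * τ * d) = (d : G)⁻¹ * (c * b * τ) * d := by group
        _ = (d : G)⁻¹ * (τ * (c * b)) * d := by rw [e1]
        _ = _ := by group
    · have h3 : ((c : G) * b) * y * ((c : G) * b)⁻¹ = y⁻¹ := e2 hcy hby
      have hdy' : (d : G) * y * (d : G)⁻¹ = y := by rw [hdy]; group
      have hdy2 : (d : G)⁻¹ * y⁻¹ * d = y⁻¹ := by
        have h4 : (d : G) * y⁻¹ = y⁻¹ * d := ((show Commute (d : G) y from hdy).inv_right).eq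
        rw [mul_assoc, ← h4]
        group
      calc (d : G)⁻¹ * (c * b) * d * y * ((d : G)⁻¹ * (c * b) * d)⁻¹ =
            (d : G)⁻¹ * ((c * b) * (d * y * (d : G)⁻¹) * (c * b)⁻¹) * d := by group
        _ = y⁻¹ := by rw [hdy', h3, hdy2]
  · right
    have hcG : (c : G) * (b * τ * b⁻¹) * (c : G)⁻¹ = τ * z := by
      rw [← hz']
      exact congrArg Subtype.val hc
    have hτzG : (τ : G) * z = z * τ := by
      rw [← hz']
      exact congrArg Subtype.val hτz
    have hzy : z * y = y * z := by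
      rw [← hz']
      exact mem_centralizer_singleton_iff.1 z'.2
    have hdy' : (d : G)⁻¹ * y * d = y := by rw [mul_assoc, ← hdy]; group
    refine ⟨(d : G)⁻¹ * z * d, (d : G)⁻¹, by rw [inv_inv], ?_, ?_, ?_⟩
    · calc (d : G)⁻¹ * z * d * y = (d : G)⁻¹ * z * (d * y) := by group
        _ = (d : G)⁻¹ * (z * y) * d := by rw [hdy]; group
        _ = (d : G)⁻¹ * (y * z) * d := by rw [hzy]
        _ = ((d : G)⁻¹ * y * d) * ((d : G)⁻¹ * z * d) := by group
        _ = y * ((d : G)⁻¹ * z * d) := by rw [hdy']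
    · rw [htd]
      calc (d : G)⁻¹ * z * d * ((d : G)⁻¹ * τ * d) = (d : G)⁻¹ * (z * τ) * d := by group
        _ = (d : G)⁻¹ * (τ * z) * d := by rw [hτzG]
        _ = _ := by group
    · refine isConj_iff.2 ⟨(d : G)⁻¹ * (c * b) * d, ?_⟩
      rw [htd]
      calc (d : G)⁻¹ * (c * b) * d * ((d : G)⁻¹ * τ * d) * ((d : G)⁻¹ * (c * b) * d)⁻¹ =
            (d : G)⁻¹ * (c * (b * τ * b⁻¹) * (c : G)⁻¹) * d := by group
        _ = (d : G)⁻¹ * (τ * z) * d := by rw [hcG]
        _ = (d : G)⁻¹ * (z * τ) * d := by rw [hτzG]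
        _ = (d : G)⁻¹ * z * d * ((d : G)⁻¹ * τ * d) := by group

/-- **Fixed rank 0.** -/
theorem zero_real {y : centralizer ({KDone.K.z} : Set Mon)} (hy : orderOf y = 3)
    (hfr : fr (KChart.pi LThreeB.Row.cent y) = 1) {t : Mon} (ht : LThreeB.Row.TA t) (hty : t * (y : Mon) = y * t) :
    Inv (y : Mon) t ∨ Two (y : Mon) t := by
  have hfin : Finite Mon := MThirteen.Row.finite
  have h := chart
  have hp : Fact (Nat.Prime 3) := ⟨Nat.prime_three⟩
  have htr := MThirteen.Row.trNe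
  have hto := MThirteen.Row.ta_order ht
  have hS : Spor.IsoSuz (XX (KChart.pi LThreeB.Row.cent y)) := CoOneFin.coOne.suz _ (orderOf_pi h hy) hfr
  have hcS : Nat.card (XX (KChart.pi LThreeB.Row.cent y)) = 448345497600 := by
    obtain ⟨e⟩ := hS
    rw [Nat.card_congr e.toEquiv]
    exact SporadicRecognition.SuzOrder.card_Suz
  have hs : IsSimpleGroup (XX (KChart.pi LThreeB.Row.cent y)) := by
    obtain ⟨e⟩ := hS
    exact (MulEquiv.isSimpleGroup_congr e).2 Cfsg.Agent.S1694.result.1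
  have hns : ¬ Group.IsSolvable (XX (KChart.pi LThreeB.Row.cent y)) :=
    H199.NSmMon.not_solvable hs hcS (by norm_num) (by norm_num)
  have hfS : Finite (XX (KChart.pi LThreeB.Row.cent y)) := Nat.finite_of_card_ne_zero (by rw [hcS]; norm_num)
  obtain ⟨N, hN⟩ := BpSpor.M5.exists_rad h (by norm_num) hy hfr (fun d hd hc => isolated h htr hy hfr d hd hc)
    hs (by rw [hcS]; decide)
  -- `y` is real in `C(z)`
  have hy3 : y ^ 3 = 1 := by rw [← hy, pow_orderOf_eq_one]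
  obtain ⟨g, hg⟩ := LThreeCo1.Ranks.zero (KChart.pi LThreeB.Row.cent y) (KChart.pi LThreeB.Row.cent y)⁻¹
    (orderOf_pi h hy) (by rw [orderOf_inv]; exact orderOf_pi h hy) hfr (by rw [fr_inv]; exact hfr)
  obtain ⟨b, hb⟩ := MFive.exists_conj_of_conj h Nat.prime_three (by decide) (x := y) (y := y⁻¹) hy3
    (by rw [inv_pow, hy3, inv_one]) (s := g) (by rw [hg, map_inv])
  have hbG : (b : Mon) * y * (b : Mon)⁻¹ = (y : Mon)⁻¹ := congrArg Subtype.val hb
  rcases rad_real (z := KDone.K.z) (y := (y : Mon)) (z' := zD y) rfl hns hN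
    (fun v w hv hv1 hw hw1 hc => suz_conj hS v w hv hv1 hw hw1 hc) (b := (b : Mon))
    (mem_centralizer_singleton_iff.1 b.2) hbG (t := t) (by rw [← pow_two, ← hto, pow_orderOf_eq_one])
    (by
      rintro rfl
      rw [orderOf_one] at hto
      omega) hty (fun d => MThirteen.Row.ta_ne ht d) with ⟨c, hc1, hc2⟩ | ⟨w, k, hk, hwy, hwt, hcon⟩
  · exact Or.inl ⟨c, hc1, hc2⟩
  · refine Or.inr ⟨w, ?_, isConj_iff.2 ⟨k, hk⟩, hwy, hwt, ht.trans hcon⟩
    have hzz : KDone.K.z * KDone.K.z = 1 := h.large.z_sq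
    rw [← hk]
    calc k * KDone.K.z * k⁻¹ * (k * KDone.K.z * k⁻¹) = k * (KDone.K.z * KDone.K.z) * k⁻¹ := by group
      _ = 1 := by rw [hzz]; group

/-- **`x` of order 3 in the Monster commuting with `t` of class 2A.** -/
theorem mon_real {x t : Mon} (hx : orderOf x = 3) (ht : LThreeB.Row.TA t) (hxt : x * t = t * x) :
    Inv x t ∨ Two x t ∨ Nat.card ↥(XT x t) ∣ 3 * 92897280 ∨ FiType t x := by
  have hfin : Finite Mon := MThirteen.Row.finite
  have hsim : IsSimpleGroup Mon := MThirteen.Row.simple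
  have h := chart
  have I := CoOneFin.coOne
  have hto := MThirteen.Row.ta_order ht
  have htt : t * t = 1 := by rw [← pow_two, ← hto, pow_orderOf_eq_one]
  have ht1 : t ≠ 1 := by
    rintro rfl
    rw [orderOf_one] at hto
    omega
  have htz : ¬ IsConj KDone.K.z t := by
    intro h1
    obtain ⟨c, hc⟩ := isConj_iff.1 h1
    exact MThirteen.Row.ta_ne ht c⁻¹ (by rw [← hc]; group)
  obtain ⟨g, hg, -⟩ := LThreeM.FiRow.exists_z_in (x := x) (v := t) (by rw [← hx, pow_orderOf_eq_one]) ht hxt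
  have h1 : (g⁻¹ * x * g⁻¹⁻¹) * KDone.K.z = KDone.K.z * (g⁻¹ * x * g⁻¹⁻¹) := by
    calc (g⁻¹ * x * g⁻¹⁻¹) * KDone.K.z = g⁻¹ * (x * (g * KDone.K.z * g⁻¹)) * g := by group
      _ = g⁻¹ * ((g * KDone.K.z * g⁻¹) * x) * g := by rw [hg]
      _ = KDone.K.z * (g⁻¹ * x * g⁻¹⁻¹) := by group
  obtain ⟨y, hyx⟩ : ∃ y : centralizer ({KDone.K.z} : Set Mon), (y : Mon) = g⁻¹ * x * g⁻¹⁻¹ :=
    ⟨⟨g⁻¹ * x * g⁻¹⁻¹, mem_centralizer_singleton_iff.2 h1⟩, rfl⟩
  have hy : orderOf y = 3 := by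
    rw [← Subgroup.orderOf_coe, hyx, ← hx]
    exact MulEquiv.orderOf_eq (MulAut.conj g⁻¹) x
  have hy' : orderOf (y : Mon) = 3 := by rw [Subgroup.orderOf_coe, hy]
  have hta : LThreeB.Row.TA (g⁻¹ * t * g⁻¹⁻¹) := IsConj.trans ht (isConj_iff.2 ⟨g⁻¹, rfl⟩)
  have hyt : (y : Mon) * (g⁻¹ * t * g⁻¹⁻¹) = (g⁻¹ * t * g⁻¹⁻¹) * y := by
    rw [hyx]
    exact LThreeB.conj_comm' hxt
  rcases I.ranks (KChart.pi LThreeB.Row.cent y) (orderOf_pi h hy) with h2 | h2 | h2 | h2
  · rcases zero_real hy h2 hta hyt.symm with h3 | h3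
    · rw [hyx] at h3
      exact Or.inl (h3.conj g⁻¹)
    · rw [hyx] at h3
      exact Or.inr (Or.inl (h3.conj g⁻¹))
  · obtain ⟨x₀, u, g₀, hx₀, hfr₀, huz, hux, hne, hg₀⟩ := MThirteen.Row.hasPair
    obtain ⟨k, hk⟩ := conj_six h MThirteen.Row.trNe I.ranks I.six
      (fun x hx h2 => ⟨(good_of_inputs h I hx h2 : Good.{0} _).simple, (good_of_inputs h I hx h2 : Good.{0} _).nc⟩)
      hx₀ hfr₀ huz hux hne hg₀ hy h2
    have hkx : (x₀ : Mon) = (k * g⁻¹) * x * (k * g⁻¹)⁻¹ := by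
      rw [← hk, hyx]
      group
    have hkt : k * (g⁻¹ * t * g⁻¹⁻¹) * k⁻¹ = (k * g⁻¹) * t * (k * g⁻¹)⁻¹ := by group
    rcases zero_real hx₀ hfr₀ (t := k * (g⁻¹ * t * g⁻¹⁻¹) * k⁻¹) (hta.trans (isConj_iff.2 ⟨k, rfl⟩))
      (by rw [← hk]; exact LThreeB.conj_comm' hyt.symm) with h3 | h3
    · rw [hkx, hkt] at h3
      exact Or.inl (h3.conj (k * g⁻¹))
    · rw [hkx, hkt] at h3
      exact Or.inr (Or.inl (h3.conj (k * g⁻¹)))
  · obtain ⟨e⟩ := LThreeB.isoTh_of_inputs h I hy h2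
    obtain ⟨τ, hτ, hd⟩ := card_XT_dvd Nat.prime_three (by norm_num) hy'
      (by rw [← hto]; exact MulEquiv.orderOf_eq (MulAut.conj g⁻¹) t) hyt
    rw [LThreeB.card_centralizer_congr e, card_inv_th (by rw [MulEquiv.orderOf_eq, hτ])] at hd
    refine Or.inr (Or.inr (Or.inl ?_))
    rw [← card_XT_conj g⁻¹ x t, ← hyx]
    exact hd
  · exact Or.inr (Or.inr (Or.inr (fi_type hy h2 (k := g) (by rw [hyx]; group) htt ht1 htz hxt.symm)))

/-! ### The Baby Monster -/

section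

variable {L : Type u} [Group L] [Finite L]

/-- **The elements of order three of `B`**: real, or commuting with a 2B-involution, or `|C(s)| ≤ 139345920`, or 3A. -/
theorem three_real (h : Spor.IsoB L) {s : L} (hs : orderOf s = 3) :
    (∃ b : L, b * s * b⁻¹ = s⁻¹) ∨ (∃ u : L, TwoB u ∧ s * u = u * s) ∨
      Nat.card ↥(centralizer ({s} : Set L)) ≤ 139345920 ∨ FiB s := by
  have hfin : Finite Mon := MThirteen.Row.finite
  obtain ⟨t, ht, h2, ⟨e⟩⟩ := exists_cover h
  obtain ⟨a, ha, ha'⟩ := exists_lift h2 Nat.prime_three (by norm_num) (x := e.symm s) (by rw [MulEquiv.orderOf_eq, hs])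
  have hse : e (QuotientGroup.mk a) = s := by rw [ha', e.apply_symm_apply]
  have hat : (a : Mon) * t = t * a := mem_centralizer_singleton_iff.1 a.2
  have h3 := card_cent h2 e Nat.prime_three (by norm_num) ha
  rw [← Nat.card_congr (centXT a).toEquiv, hse] at h3
  rcases mon_real (x := (a : Mon)) (t := t) (by rw [Subgroup.orderOf_coe, ha]) ht hat with
    ⟨b, hbt, hba⟩ | ⟨w, hww, hzw, hwa, hwt, hta⟩ | h4 | h4
  · left
    refine ⟨e (QuotientGroup.mk ⟨b, mem_centralizer_singleton_iff.2 hbt⟩), ?_⟩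
    rw [← hse, ← map_mul, ← map_inv, ← map_mul, ← map_inv]
    congr 1
    have e1 : (⟨b, mem_centralizer_singleton_iff.2 hbt⟩ : ↥(centralizer ({t} : Set Mon))) * a *
        (⟨b, mem_centralizer_singleton_iff.2 hbt⟩ : ↥(centralizer ({t} : Set Mon)))⁻¹ = a⁻¹ := Subtype.ext hba
    rw [← QuotientGroup.mk_mul, ← QuotientGroup.mk_inv, ← QuotientGroup.mk_mul, e1, QuotientGroup.mk_inv]
  · right; left
    refine ⟨e (QuotientGroup.mk ⟨w, mem_centralizer_singleton_iff.2 hwt⟩),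
      ⟨t, ht, h2, e, ⟨w, mem_centralizer_singleton_iff.2 hwt⟩, hww, hzw, hta, rfl⟩, ?_⟩
    rw [← hse, ← map_mul, ← map_mul]
    congr 1
    have e1 : a * (⟨w, mem_centralizer_singleton_iff.2 hwt⟩ : ↥(centralizer ({t} : Set Mon))) =
        (⟨w, mem_centralizer_singleton_iff.2 hwt⟩ : ↥(centralizer ({t} : Set Mon))) * a := Subtype.ext hwa.symm
    rw [← QuotientGroup.mk_mul, e1, QuotientGroup.mk_mul]
  · right; right; left
    rw [h3] at h4
    have h5 : Nat.card ↥(centralizer ({s} : Set L)) * 2 ≤ 3 * 92897280 := Nat.le_of_dvd (by norm_num) h4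
    omega
  · exact Or.inr (Or.inr (Or.inr ⟨t, ht, h2, e, a, ha, hse, h4⟩))

end

end Cfsg.Agent.H844.Ore.BReal
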