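import Cfsg.Agent.H844.Ore.BThirteen
import Cfsg.Agent.H715.Mon.Exact
import Cfsg.Agent.H954.DR.CentB

/-!
# Row B of Ore: the elements of prime order at least seven of the Baby Monster (helper844)

* `seven` : `|C(y)| ≤ 287884800`, `eleven` : `|C(y)| ≤ 522720`, `thirteen` : `|C(y)| ≤ 1716000000`;
* `prime_le` : `|C(y)| ≤ 1716000000` for `y` of prime order at least seven.
-/

set_option autoImplicit false
set_option maxRecDepth 100000

universe u

namespace Cfsg.Agent.H844.Ore.BPrimes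

open Cfsg Cfsg.Agent Subgroup
open Cfsg.Agent.H979.CovLift
open Cfsg.Agent.BpSpor.MBigModel
open Cfsg.Agent.H715.Mon.Grp (SThree)

variable {L : Type u} [Group L]

/-- **the cover** -/
theorem exists_pair (h : Spor.IsoB L) {p : ℕ} (hp : p.Prime) (hp2 : p ≠ 2) {y : L} (hy : orderOf y = p) :
    ∃ x t : MG, orderOf x = p ∧ LThreeB.Row.TA t ∧ x * t = t * x ∧
      Nat.card ↥(centralizer ({x} : Set MG) ⊓ centralizer ({t} : Set MG)) =
        Nat.card ↥(centralizer ({y} : Set L)) * 2 := by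
  have hfin : Finite MG := MThirteen.Row.finite
  obtain ⟨t, ht, h2, ⟨e⟩⟩ := H979.OddB.exists_cover h
  obtain ⟨x, hx, hx'⟩ := exists_lift h2 hp hp2 (x := e.symm y) (by rw [MulEquiv.orderOf_eq, hy])
  have h1 := Cfsg.Agent.H180.TH.Baby.card_quot h2 e (x := x) (n := p) (hp.odd_of_ne_two hp2)
    (by rw [← hx, pow_orderOf_eq_one])
  rw [hx', e.apply_symm_apply] at h1
  exact ⟨x, t, by rw [Subgroup.orderOf_coe, hx], ht, mem_centralizer_singleton_iff.1 x.2, h1⟩

theorem dvd_of_M (h : Spor.IsoB L) {p c : ℕ} (hp : p.Prime) (hp2 : p ≠ 2) {y : L} (hy : orderOf y = p)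
    (hc : ∀ x t : MG, orderOf x = p → LThreeB.Row.TA t → x * t = t * x →
      Nat.card ↥(centralizer ({x} : Set MG)) = c) : Nat.card ↥(centralizer ({y} : Set L)) * 2 ∣ c := by
  have hfin : Finite MG := MThirteen.Row.finite
  obtain ⟨x, t, hx, ht, hxt, h1⟩ := exists_pair h hp hp2 hy
  rw [← h1, ← hc x t hx ht hxt]
  exact card_dvd_of_le inf_le_left

theorem seven_dvd (h : Spor.IsoB L) {y : L} (hy : orderOf y = 7) :
    Nat.card ↥(centralizer ({y} : Set L)) ∣ 287884800 := by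
  have h1 := dvd_of_M h (by norm_num) (by norm_num) hy (c := 4030387200 * 7)
    (fun x t hx ht hxt => H478.SporBaby.card_cent (v := t) ht hx hxt)
  have h2 : Nat.card ↥(centralizer ({y} : Set L)) ∣ 4154781481226426191177580544000000 := by
    rw [← NotCT.Orders.b h]
    exact Subgroup.card_subgroup_dvd_card _
  have h3 : Nat.card ↥(centralizer ({y} : Set L)) ∣ 14106355200 := by
    refine Nat.dvd_of_mul_dvd_mul_right (show 0 < 2 by norm_num) (h1.trans ?_)
    norm_num
  have h4 := Nat.dvd_gcd h3 h2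
  refine h4.trans ?_
  norm_num

theorem eleven_dvd (h : Spor.IsoB L) {y : L} (hy : orderOf y = 11) :
    Nat.card ↥(centralizer ({y} : Set L)) ∣ 522720 := by
  have h1 := dvd_of_M h (by norm_num) (by norm_num) hy (c := 11 * 95040)
    (fun x t hx ht hxt => H199.AbMon.eleven hx (BpSpor.MBigEleven.comm_z hx (MThirteen.Row.ta_order ht) hxt))
  refine Nat.dvd_of_mul_dvd_mul_right (show 0 < 2 by norm_num) (h1.trans ?_)
  norm_num

theorem seventeen_dvd (h3 : SThree.{0}) (h : Spor.IsoB L) {y : L} (hy : orderOf y = 17) :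
    Nat.card ↥(centralizer ({y} : Set L)) ∣ 1428 := by
  have h1 := dvd_of_M h (by norm_num) (by norm_num) hy (c := 168 * 17)
    (fun x t hx ht hxt => H715.Mon.Exact.card17 h3 hx)
  refine Nat.dvd_of_mul_dvd_mul_right (show 0 < 2 by norm_num) (h1.trans ?_)
  norm_num

theorem isSimple (h : Spor.IsoB L) : IsSimpleGroup L := by
  obtain ⟨e⟩ := h
  exact (MulEquiv.isSimpleGroup_congr e).2 (Cfsg.Agent.S1704.result : Cfsg.IsB Cfsg.Spor.BabyMonster).1

/-! ### Order 13 -/

theorem not_nine (h : Spor.IsoB L) {y : L} (hy : orderOf y = 13) :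
    ¬ 9 ∣ Nat.card ↥(centralizer ({y} : Set L)) := by
  obtain ⟨x, t, hx, ht, hxt, h1⟩ := exists_pair h (by norm_num) (by norm_num) hy
  intro h9
  apply MThirteen.Row.not_nine LThreeMB.CoOneFin.coOne hx ht hxt
  rw [h1]
  exact h9.mul_right 2

theorem not_two {y : Spor.BabyMonster} (hy : orderOf y = 13) :
    ¬ 2 ^ 9 ∣ Nat.card ↥(centralizer ({y} : Set Spor.BabyMonster)) := by
  have hfin := CTwoTab.BInst.finite_B
  have h2 : Fact (Nat.Prime 2) := ⟨Nat.prime_two⟩
  intro hd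
  obtain ⟨P, hP⟩ := Sylow.exists_subgroup_card_pow_prime 2 hd
  have hPp : IsPGroup 2 ↥P := IsPGroup.of_card hP
  have hPn : Nontrivial ↥P := by
    rw [← Finite.one_lt_card_iff_nontrivial, hP]
    norm_num
  have hc := hPp.center_nontrivial
  have hcp : IsPGroup 2 ↥(center ↥P) := hPp.to_subgroup _
  obtain ⟨n, hn0, hn⟩ := hcp.nontrivial_iff_card.1 hc
  obtain ⟨v, hv⟩ := exists_prime_orderOf_dvd_card' (G := ↥(center ↥P)) 2 (by rw [hn]; exact dvd_pow_self 2 hn0.ne')
  obtain ⟨u, hu⟩ : ∃ u : Spor.BabyMonster, u = ((v : ↥P) : ↥(centralizer ({y} : Set Spor.BabyMonster))) := ⟨_, rfl⟩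
  have huo : orderOf u = 2 := by
    rw [hu, Subgroup.orderOf_coe, Subgroup.orderOf_coe, Subgroup.orderOf_coe, hv]
  have huy : y * u = u * y := by
    rw [hu]
    exact (mem_centralizer_singleton_iff.1 ((v : ↥P) : ↥(centralizer ({y} : Set Spor.BabyMonster))).2).symm
  have h3 := BThirteen.card_inv huo hy huy
  have h4 : Nat.card ↥(P.map (centralizer ({y} : Set Spor.BabyMonster)).subtype) = 2 ^ 9 := by
    rw [card_map_of_injective (Subgroup.subtype_injective _), hP]
  have h5 : P.map (centralizer ({y} : Set Spor.BabyMonster)).subtype ≤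
      centralizer ({u} : Set Spor.BabyMonster) ⊓ centralizer ({y} : Set Spor.BabyMonster) := by
    rintro _ ⟨c, hc, rfl⟩
    refine ⟨mem_centralizer_singleton_iff.2 ?_, c.2⟩
    have h6 := mem_center_iff.1 v.2 ⟨c, hc⟩
    have h7 : c * ((v : ↥P) : ↥(centralizer ({y} : Set Spor.BabyMonster))) = ((v : ↥P) : _) * c :=
      congrArg Subtype.val h6
    rw [hu]
    exact congrArg Subtype.val h7
  have h6 := Subgroup.card_le_of_le h5
  rw [h4] at h6
  have h7 := h6.trans h3
  norm_num at h7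

/-- `n ∣ p ^ a * k`, `p ^ (b + 1)` does not divide `n` -/
theorem dvd_part {p a b k n : ℕ} (hp : p.Prime) (h : n ∣ p ^ a * k) (hn : n ≠ 0) (hb : ¬ p ^ (b + 1) ∣ n) :
    n ∣ p ^ b * k := by
  obtain ⟨j, m, hm, rfl⟩ := Nat.exists_eq_pow_mul_and_not_dvd hn p hp.ne_one
  have hj : j ≤ b := by
    by_contra hj
    exact hb ((pow_dvd_pow p (by omega)).trans (Dvd.intro _ rfl))
  have h1 : m ∣ k := by
    refine (Nat.Coprime.pow_right a ?_).dvd_of_dvd_mul_left ((Dvd.intro_left _ rfl).trans h)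
    exact ((Nat.Prime.coprime_iff_not_dvd hp).2 hm).symm
  exact mul_dvd_mul (pow_dvd_pow p hj) h1

/-- a prime `r` dividing `|C(y)|` : `|C(v)|` is divisible by the order of `y` for some `v` of order `r` -/
theorem not_dvd [Finite L] {y : L} {r m : ℕ} (hr : r.Prime) (hm : ¬ orderOf y ∣ m)
    (h : ∀ v : L, orderOf v = r → Nat.card ↥(centralizer ({v} : Set L)) ∣ m) :
    ¬ r ∣ Nat.card ↥(centralizer ({y} : Set L)) := by
  intro hd
  have : Fact r.Prime := ⟨hr⟩
  obtain ⟨v, hv⟩ := exists_prime_orderOf_dvd_card' (G := ↥(centralizer ({y} : Set L))) r hd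
  apply hm
  refine dvd_trans ?_ (h (v : L) (by rw [Subgroup.orderOf_coe, hv]))
  have h1 : y ∈ centralizer ({(v : L)} : Set L) :=
    mem_centralizer_singleton_iff.2 (mem_centralizer_singleton_iff.1 v.2).symm
  rw [← Subgroup.orderOf_mk y h1]
  exact orderOf_dvd_natCard _

theorem thirteen_dvd (h3 : SThree.{0}) (h : Spor.IsoB L) {y : L} (hy : orderOf y = 13) :
    Nat.card ↥(centralizer ({y} : Set L)) ∣ 1716000000 := by
  have hs : IsSimpleGroup L := isSimple h
  have hfin : Finite L := Nat.finite_of_card_ne_zero (by rw [NotCT.Orders.b h]; norm_num)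
  obtain ⟨n, hn⟩ : ∃ n, n = Nat.card ↥(centralizer ({y} : Set L)) := ⟨_, rfl⟩
  have h0 : n ≠ 0 := by rw [hn]; exact Nat.card_pos.ne'
  have hd : n ∣ 4154781481226426191177580544000000 := by
    rw [hn, ← NotCT.Orders.b h]
    exact Subgroup.card_subgroup_dvd_card _
  have k7 : ¬ 7 ∣ n := by
    rw [hn]
    exact not_dvd (by norm_num) (by rw [hy]; norm_num) fun v hv => seven_dvd h hv
  have k17 : ¬ 17 ∣ n := by
    rw [hn]
    exact not_dvd (by norm_num) (by rw [hy]; norm_num) fun v hv => seventeen_dvd h3 h hv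
  have k19 : ¬ 19 ∣ n := by
    rw [hn]
    exact not_dvd (m := 38) (by norm_num) (by rw [hy]; norm_num) fun v hv => by
      rw [H715.Mon.Exact.B.cent19 h3 h hv]
  have k23 : ¬ 23 ∣ n := by
    rw [hn]
    exact not_dvd (m := 46) (by norm_num) (by rw [hy]; norm_num) fun v hv => by
      rw [H715.Mon.Exact.B.cent23 h3 h hv]
  have k31 : ¬ 31 ∣ n := by
    rw [hn]
    exact not_dvd (m := 31) (by norm_num) (by rw [hy]; norm_num) fun v hv => by
      rw [H715.Mon.Exact.B.cent31 h3 h hv]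
  have k47 : ¬ 47 ∣ n := by
    rw [hn]
    exact not_dvd (m := 47) (by norm_num) (by rw [hy]; norm_num) fun v hv => by
      rw [H954.DR.CentB.cent47 h hv]
  have k3 : ¬ 3 ^ 2 ∣ n := by
    rw [hn]
    exact not_nine h hy
  have k2 : ¬ 2 ^ 9 ∣ n := by
    obtain ⟨e⟩ := h
    rw [hn, Cfsg.Agent.LThreeB.card_centralizer_congr e]
    exact not_two (by rw [MulEquiv.orderOf_eq, hy])
  have d1 : n ∣ 47 ^ 1 * (2 ^ 41 * 3 ^ 13 * 5 ^ 6 * 7 ^ 2 * 11 * 13 * 17 * 19 * 23 * 31) := hd.trans (by norm_num)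
  have d2 := dvd_part (b := 0) (by norm_num) d1 h0 (by rw [zero_add, pow_one]; exact k47)
  have d3 := dvd_part (b := 0) (k := 2 ^ 41 * 3 ^ 13 * 5 ^ 6 * 7 ^ 2 * 11 * 13 * 17 * 19 * 23) (a := 1)
    (show Nat.Prime 31 by norm_num) (d2.trans (by norm_num)) h0 (by rw [zero_add, pow_one]; exact k31)
  have d4 := dvd_part (b := 0) (k := 2 ^ 41 * 3 ^ 13 * 5 ^ 6 * 7 ^ 2 * 11 * 13 * 17 * 19) (a := 1)
    (show Nat.Prime 23 by norm_num) (d3.trans (by norm_num)) h0 (by rw [zero_add, pow_one]; exact k23)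
  have d5 := dvd_part (b := 0) (k := 2 ^ 41 * 3 ^ 13 * 5 ^ 6 * 7 ^ 2 * 11 * 13 * 17) (a := 1)
    (show Nat.Prime 19 by norm_num) (d4.trans (by norm_num)) h0 (by rw [zero_add, pow_one]; exact k19)
  have d6 := dvd_part (b := 0) (k := 2 ^ 41 * 3 ^ 13 * 5 ^ 6 * 7 ^ 2 * 11 * 13) (a := 1)
    (show Nat.Prime 17 by norm_num) (d5.trans (by norm_num)) h0 (by rw [zero_add, pow_one]; exact k17)
  have d7 := dvd_part (b := 0) (k := 2 ^ 41 * 3 ^ 13 * 5 ^ 6 * 11 * 13) (a := 2)
    (show Nat.Prime 7 by norm_num) (d6.trans (by norm_num)) h0 (by rw [zero_add, pow_one]; exact k7)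
  have d8 := dvd_part (b := 1) (k := 2 ^ 41 * 5 ^ 6 * 11 * 13) (a := 13)
    (show Nat.Prime 3 by norm_num) (d7.trans (by norm_num)) h0 k3
  have d9 := dvd_part (b := 8) (k := 3 * 5 ^ 6 * 11 * 13) (a := 41)
    (show Nat.Prime 2 by norm_num) (d8.trans (by norm_num)) h0 k2
  rw [← hn]
  exact d9.trans (by norm_num)

/-- **The elements of prime order at least seven.** -/
theorem prime_le (h3 : SThree.{0}) (h : Spor.IsoB L) {y : L} (hp : (orderOf y).Prime) (h7 : 7 ≤ orderOf y) :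
    Nat.card ↥(centralizer ({y} : Set L)) ≤ 1716000000 := by
  have hs : IsSimpleGroup L := isSimple h
  have hfin : Finite L := Nat.finite_of_card_ne_zero (by rw [NotCT.Orders.b h]; norm_num)
  have hd : orderOf y ∣ 2 ^ 41 * (3 ^ 13 * (5 ^ 6 * (7 ^ 2 * (11 * (13 * (17 * (19 * (23 * (31 * 47))))))))) := by
    refine (orderOf_dvd_natCard y).trans ?_
    rw [NotCT.Orders.b h]
    norm_num
  have key : ∀ {q k : ℕ}, q.Prime → orderOf y ∣ q ^ k → orderOf y = q := fun hq h1 =>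
    (Nat.prime_dvd_prime_iff_eq hp hq).1 (hp.dvd_of_dvd_pow h1)
  have key' : ∀ {q : ℕ}, q.Prime → orderOf y ∣ q → orderOf y = q := fun hq h1 =>
    (Nat.prime_dvd_prime_iff_eq hp hq).1 h1
  rcases hp.dvd_mul.1 hd with h1 | h1
  · have := key Nat.prime_two h1; omega
  rcases hp.dvd_mul.1 h1 with h1 | h1
  · have := key Nat.prime_three h1; omega
  rcases hp.dvd_mul.1 h1 with h1 | h1
  · have := key Nat.prime_five h1; omega
  rcases hp.dvd_mul.1 h1 with h1 | h1
  · exact (Nat.le_of_dvd (by norm_num) (seven_dvd h (key (by norm_num) h1))).trans (by norm_num)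
  rcases hp.dvd_mul.1 h1 with h1 | h1
  · exact (Nat.le_of_dvd (by norm_num) (eleven_dvd h (key' (by norm_num) h1))).trans (by norm_num)
  rcases hp.dvd_mul.1 h1 with h1 | h1
  · exact Nat.le_of_dvd (by norm_num) (thirteen_dvd h3 h (key' (by norm_num) h1))
  rcases hp.dvd_mul.1 h1 with h1 | h1
  · exact (Nat.le_of_dvd (by norm_num) (seventeen_dvd h3 h (key' (by norm_num) h1))).trans (by norm_num)
  rcases hp.dvd_mul.1 h1 with h1 | h1
  · rw [H715.Mon.Exact.B.cent19 h3 h (key' (by norm_num) h1)]; norm_num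
  rcases hp.dvd_mul.1 h1 with h1 | h1
  · rw [H715.Mon.Exact.B.cent23 h3 h (key' (by norm_num) h1)]; norm_num
  rcases hp.dvd_mul.1 h1 with h1 | h1
  · rw [H715.Mon.Exact.B.cent31 h3 h (key' (by norm_num) h1)]; norm_num
  · rw [H954.DR.CentB.cent47 h (key' (by norm_num) h1)]; norm_num

end Cfsg.Agent.H844.Ore.BPrimes
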