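import Cfsg.Agent.BpSpor.MFiveAbs

/-!
# Row B of Ore: the centralizer of an involution in the situation `Rad` (helper844)

`D = N C_D(z)`, `f : C_D(z) → A` onto with kernel `⟨x, z⟩`, `τ ≠ z` an involution commuting with `z`:
`|C_D(τ)| = 2 k m` with `k = |C_N(τ)|`, `m ∣ |C_A(f τ)| ∣ 2 m` (`card_cent_p` for any odd prime).
-/

set_option autoImplicit false
set_option linter.unusedSectionVars false

namespace Cfsg.Agent.H844.Ore.BAbs

open Subgroup Cfsg Cfsg.Agent.BpSpor.M5

universe u v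

section frattini

variable {F : Type u} [Group F] [Finite F]

/-- an involution whose conjugates lie in `N z`, `N` of odd order: `F = N C(z)` -/
theorem exists_mul (N : Subgroup F) (hN : Odd (Nat.card ↥N)) {z : F} (hz : z * z = 1)
    {g : F} (hg : (g * z * g⁻¹) * z ∈ N) : ∃ n ∈ N, ∃ c, c * z = z * c ∧ g = n * c := by
  set u := g * z * g⁻¹ with hu
  have huu : u * u = 1 := by
    rw [hu]
    calc g * z * g⁻¹ * (g * z * g⁻¹) = g * (z * z) * g⁻¹ := by group
      _ = 1 := by rw [hz]; group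
  have hzi : z⁻¹ = z := inv_eq_of_mul_eq_one_left hz
  have hui : u⁻¹ = u := inv_eq_of_mul_eq_one_left huu
  set a := u * z with ha
  have hza : z * a * z⁻¹ = a⁻¹ := by
    rw [ha, mul_inv_rev, hui, hzi]
    calc z * (u * z) * z = z * u * (z * z) := by group
      _ = z * u := by rw [hz, mul_one]
  obtain ⟨j, hj⟩ := hN
  have ha1 : a ^ (2 * j + 1) = 1 := by
    have h1 : (⟨a, hg⟩ : ↥N) ^ (2 * j + 1) = 1 := by rw [← hj]; exact pow_card_eq_one'
    exact congrArg Subtype.val h1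
  have hmm : a ^ (j + 1) * a ^ (j + 1) = a := by
    rw [← pow_add, show j + 1 + (j + 1) = 2 * j + 1 + 1 by ring, pow_succ, ha1, one_mul]
  have hzm : z * a ^ (j + 1) * z⁻¹ = (a ^ (j + 1))⁻¹ := by
    rw [← conj_pow, hza, inv_pow]
  have hmz : a ^ (j + 1) * z * (a ^ (j + 1))⁻¹ = u := by
    have h2 : (a ^ (j + 1))⁻¹ = z * a ^ (j + 1) * z := by rw [← hzm, hzi]
    calc a ^ (j + 1) * z * (a ^ (j + 1))⁻¹ = a ^ (j + 1) * (z * z) * a ^ (j + 1) * z := by rw [h2]; group
      _ = (a ^ (j + 1) * a ^ (j + 1)) * z := by rw [hz]; group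
      _ = u := by rw [hmm, ha, mul_assoc, hz, mul_one]
  refine ⟨a ^ (j + 1), N.pow_mem hg _, (a ^ (j + 1))⁻¹ * g, ?_, by group⟩
  have h3 : a ^ (j + 1) * z * (a ^ (j + 1))⁻¹ = g * z * g⁻¹ := hmz
  calc (a ^ (j + 1))⁻¹ * g * z = (a ^ (j + 1))⁻¹ * (g * z * g⁻¹) * g := by group
    _ = (a ^ (j + 1))⁻¹ * (a ^ (j + 1) * z * (a ^ (j + 1))⁻¹) * g := by rw [h3]
    _ = z * ((a ^ (j + 1))⁻¹ * g) := by group

/-- orders in `F = N C` -/
theorem card_mul_inf (N C : Subgroup F) [hN : N.Normal] (h : ∀ g : F, ∃ n ∈ N, ∃ c ∈ C, g = n * c) :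
    Nat.card F * Nat.card ↥(N ⊓ C : Subgroup F) = Nat.card ↥N * Nat.card ↥C := by
  have h1 : C ⊔ N = ⊤ := by
    rw [eq_top_iff]
    intro g _
    obtain ⟨n, hn, c, hc, rfl⟩ := h g
    exact mul_mem (mem_sup_right hn) (mem_sup_left hc)
  have h2 : N.index = N.relIndex C := by
    rw [← relIndex_top_right, ← h1, relIndex_sup_right]
  have h3 := N.card_mul_index
  have h4 := (N.subgroupOf C).card_mul_index
  have h5 : Nat.card ↥(N.subgroupOf C) = Nat.card ↥(N ⊓ C : Subgroup F) := by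
    rw [← card_map_of_injective C.subtype_injective, subgroupOf_map_subtype]
  rw [h5] at h4
  rw [← h3, h2, ← h4, relIndex]
  ring

end frattini

/-- a subgroup of index one or two -/
theorem card_dvd_two {A : Type v} [Group A] [Finite A] (I : Subgroup A) (h : ∀ a b : A, a ∉ I → b ∉ I → a * b ∈ I) :
    Nat.card A ∣ 2 * Nat.card ↥I := by
  have h1 : I.index ∣ 2 := by
    by_cases ht : I = ⊤
    · rw [ht, index_top]
      exact one_dvd _
    · obtain ⟨a, ha⟩ : ∃ a, a ∉ I := by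
        by_contra hcon
        push Not at hcon
        exact ht (eq_top_iff.2 fun g _ => hcon g)
      refine (index_eq_two_iff.2 ⟨a⁻¹, fun b => ?_⟩).dvd
      by_cases hb : b ∈ I
      · refine Or.inr ⟨hb, fun h2 => ha ?_⟩
        have h3 := I.mul_mem (I.inv_mem hb) h2
        rw [inv_mul_cancel_left] at h3
        exact inv_mem_iff.1 h3
      · refine Or.inl ⟨h b a⁻¹ hb fun h2 => ha (inv_mem_iff.1 h2), hb⟩
  rw [← I.card_mul_index, mul_comm]
  exact Nat.mul_dvd_mul_right h1 _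

section

variable {D : Type u} [Group D] [Finite D] {z x : D} {N : Subgroup D} {A : Type v} [Group A] [Finite A]
  {f : ↥(centralizer ({z} : Set D)) →* A}

/-- **The centralizer of `τ`.** -/
theorem card_cent_p {p : ℕ} [hp : Fact p.Prime] (hp2 : p ≠ 2) [IsSimpleGroup A] (hAc : ¬ Group.IsSolvable A)
    (h : Rad p z x N f) {τ : D} (hτ : τ * τ = 1) (hτz : τ * z = z * τ) :
    ∃ m : ℕ, Nat.card ↥(centralizer ({τ} : Set D)) = Nat.card ↥(N ⊓ centralizer ({τ} : Set D) : Subgroup D) * (2 * m) ∧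
      m ∣ Nat.card ↥(centralizer ({f ⟨τ, mem_centralizer_singleton_iff.2 hτz⟩} : Set A)) ∧
      Nat.card ↥(centralizer ({f ⟨τ, mem_centralizer_singleton_iff.2 hτz⟩} : Set A)) ∣ 2 * m := by
  have hNn := h.nN
  set F : Subgroup D := centralizer ({τ} : Set D) with hF
  have hzF : z ∈ F := mem_centralizer_singleton_iff.2 hτz.symm
  have hxF : x ∈ F := mem_centralizer_singleton_iff.2 (h.xc τ).symm
  have memF : ∀ {g : D}, g ∈ F ↔ g * τ = τ * g := mem_centralizer_singleton_iff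
  set N' : Subgroup ↥F := N.subgroupOf F with hN'
  have cN' : Nat.card ↥N' = Nat.card ↥(N ⊓ F : Subgroup D) := by
    rw [hN', ← card_map_of_injective F.subtype_injective, subgroupOf_map_subtype]
  have oN' : Odd (Nat.card ↥N') := by
    rw [cN']
    exact h.oN.of_dvd_nat (card_dvd_of_le inf_le_left)
  set z' : ↥F := ⟨z, hzF⟩ with hz'
  set x' : ↥F := ⟨x, hxF⟩ with hx'
  set C : Subgroup ↥F := centralizer ({z'} : Set ↥F) with hC
  -- `F = N' C`
  have hsup : ∀ g : ↥F, ∃ n ∈ N', ∃ c ∈ C, g = n * c := by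
    intro g
    obtain ⟨n, hn, c, hc, hg⟩ := exists_mul N' oN' (z := z') (Subtype.ext h.zz) (g := g) (by
      rw [hN', mem_subgroupOf]
      obtain ⟨n, hn, c, hc, hg⟩ := h.sup (g : D)
      show (g : D) * z * (g : D)⁻¹ * z ∈ N
      have e : (g : D) * z * (g : D)⁻¹ * z = n * (z * n⁻¹ * z⁻¹) * (z * z) := by
        rw [hg]
        calc n * c * z * (n * c)⁻¹ * z = n * (c * z) * c⁻¹ * n⁻¹ * z := by group
          _ = n * (z * c) * c⁻¹ * n⁻¹ * z := by rw [hc]
          _ = _ := by group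
      rw [e, h.zz, mul_one]
      exact N.mul_mem hn (hNn.conj_mem _ (N.inv_mem hn) z))
    exact ⟨n, hn, c, mem_centralizer_singleton_iff.2 hc, hg⟩
  have hcard := card_mul_inf N' C hsup
  -- `N' ∩ C = ⟨x'⟩`
  have ox' : orderOf x' = p := by rw [hx', orderOf_mk, h.ox]
  have hNC : N' ⊓ C = zpowers x' := by
    ext g
    constructor
    · rintro ⟨h1, h2⟩
      have h3 := h.cN (g : D) (mem_subgroupOf.1 h1) (congrArg Subtype.val (mem_centralizer_singleton_iff.1 h2))
      obtain ⟨i, hi⟩ := mem_zpowers_iff.1 h3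
      exact mem_zpowers_iff.2 ⟨i, Subtype.ext hi⟩
    · intro hg
      obtain ⟨i, rfl⟩ := mem_zpowers_iff.1 hg
      refine ⟨mem_subgroupOf.2 (N.zpow_mem h.xN i), mem_centralizer_singleton_iff.2 (Subtype.ext ?_)⟩
      exact (h.xzc i z).symm
  have cNC : Nat.card ↥(N' ⊓ C : Subgroup ↥F) = p := by rw [hNC, Nat.card_zpowers, ox']
  -- the map to `A`
  let ι : ↥C →* ↥(centralizer ({z} : Set D)) :=
    { toFun := fun c => ⟨((c : ↥F) : D), mem_centralizer_singleton_iff.2
        (congrArg Subtype.val (mem_centralizer_singleton_iff.1 c.2))⟩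
      map_one' := rfl
      map_mul' := fun _ _ => rfl }
  let φ : ↥C →* A := f.comp ι
  have hxC : x' ∈ C := mem_centralizer_singleton_iff.2 (Subtype.ext (h.xc z).symm)
  have hzC : z' ∈ C := mem_centralizer_singleton_iff.2 rfl
  -- the kernel
  have fz : f ⟨z, mem_centralizer_singleton_iff.2 rfl⟩ = 1 :=
    h.f_central hAc fun g => Subtype.ext (mem_centralizer_singleton_iff.1 g.2)
  have fx : f ⟨x, mem_centralizer_singleton_iff.2 (h.xc z).symm⟩ = 1 :=
    h.f_central hAc fun g => Subtype.ext (h.xc g)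
  have memK : ∀ c : ↥C, c ∈ φ.ker → ∃ i : ℤ, ((c : ↥F) : D) = x ^ i ∨ ((c : ↥F) : D) = x ^ i * z :=
    fun c hc => h.ker (ι c) (MonoidHom.mem_ker.1 hc)
  have hker : Nat.card ↥φ.ker = p * 2 := by
    set xk : ↥φ.ker := ⟨⟨x', hxC⟩, MonoidHom.mem_ker.2 fx⟩ with hxk
    set zk : ↥φ.ker := ⟨⟨z', hzC⟩, MonoidHom.mem_ker.2 fz⟩ with hzk
    have oxk : orderOf xk = p := by rw [hxk, orderOf_mk, orderOf_mk, ox']
    have ozk : orderOf zk = 2 := by
      refine orderOf_eq_prime (Subtype.ext (Subtype.ext (Subtype.ext ?_))) fun h1 => h.z1 ?_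
      · show z ^ 2 = 1
        rw [pow_two, h.zz]
      · exact congrArg (fun c : ↥φ.ker => (((c : ↥C) : ↥F) : D)) h1
    have hnx : (zpowers xk).Normal := by
      refine ⟨fun n hn g => ?_⟩
      obtain ⟨i, rfl⟩ := mem_zpowers_iff.1 hn
      have e : g * xk ^ i * g⁻¹ = xk ^ i := by
        rw [mul_inv_eq_iff_eq_mul]
        exact Subtype.ext (Subtype.ext (Subtype.ext (h.xzc i (((g : ↥C) : ↥F) : D))))
      rw [e]
      exact hn
    have h1 := card_mul_inf (zpowers xk) (zpowers zk) (fun g => by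
      obtain ⟨i, hi | hi⟩ := memK g g.2
      · exact ⟨xk ^ i, zpow_mem_zpowers xk i, 1, one_mem _, Subtype.ext (Subtype.ext (Subtype.ext (by
          rw [mul_one]
          exact hi)))⟩
      · exact ⟨xk ^ i, zpow_mem_zpowers xk i, zk, mem_zpowers _, Subtype.ext (Subtype.ext (Subtype.ext hi))⟩)
    rw [Nat.card_zpowers, Nat.card_zpowers, oxk, ozk] at h1
    have h2 : Nat.card ↥(zpowers xk ⊓ zpowers zk : Subgroup ↥φ.ker) = 1 := by
      refine Nat.dvd_one.1 ?_
      have e : Nat.gcd (Nat.card ↥(zpowers xk)) (Nat.card ↥(zpowers zk)) = 1 := by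
        rw [Nat.card_zpowers, Nat.card_zpowers, oxk, ozk]
        exact (Nat.coprime_primes hp.out Nat.prime_two).2 hp2
      rw [← e]
      exact Nat.dvd_gcd (card_dvd_of_le inf_le_left) (card_dvd_of_le inf_le_right)
    rw [h2, mul_one] at h1
    exact h1
  have hcC : Nat.card ↥C = p * 2 * Nat.card ↥φ.range := by
    rw [Subgroup.card_eq_card_quotient_mul_card_subgroup φ.ker, hker, mul_comm]
    congr 1
    exact Nat.card_congr (QuotientGroup.quotientKerEquivRange φ).toEquiv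
  refine ⟨Nat.card ↥φ.range, ?_, ?_, ?_⟩
  · rw [cNC, hcC, cN'] at hcard
    have h1 : Nat.card ↥F * p = (Nat.card ↥(N ⊓ F : Subgroup D) * (2 * Nat.card ↥φ.range)) * p := by
      rw [hcard]
      ring
    exact Nat.eq_of_mul_eq_mul_right hp.out.pos h1
  · refine card_dvd_of_le ?_
    rintro _ ⟨c, rfl⟩
    rw [mem_centralizer_singleton_iff]
    show f (ι c) * f _ = f _ * f (ι c)
    rw [← map_mul, ← map_mul]
    congr 1
    exact Subtype.ext (mem_centralizer_singleton_iff.1 (c : ↥F).2)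
  · set CA := centralizer ({f ⟨τ, mem_centralizer_singleton_iff.2 hτz⟩} : Set A) with hCA
    have hle : φ.range ≤ CA := by
      rintro _ ⟨c, rfl⟩
      rw [hCA, mem_centralizer_singleton_iff]
      show f (ι c) * f _ = f _ * f (ι c)
      rw [← map_mul, ← map_mul]
      congr 1
      exact Subtype.ext (mem_centralizer_singleton_iff.1 (c : ↥F).2)
    have e : Nat.card ↥(φ.range.subgroupOf CA) = Nat.card ↥φ.range :=
      Nat.card_congr (subgroupOfEquivOfLe hle).toEquiv
    rw [← e]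
    -- an element of `C_D(z)` normalizing `⟨τ, x, z⟩`
    have key : ∀ a : ↥CA, a ∉ φ.range.subgroupOf CA → ∃ c : ↥(centralizer ({z} : Set D)), f c = (a : A) ∧
        (c : D) * τ * (c : D)⁻¹ = τ * z := by
      intro a ha
      obtain ⟨c, hc⟩ := h.surj (a : A)
      refine ⟨c, hc, ?_⟩
      have hcz : (c : D) * z = z * c := mem_centralizer_singleton_iff.1 c.2
      have h1 : f (c * ⟨τ, mem_centralizer_singleton_iff.2 hτz⟩ * c⁻¹ * ⟨τ, mem_centralizer_singleton_iff.2 hτz⟩⁻¹) = 1 := by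
        rw [map_mul, map_mul, map_mul, map_inv, map_inv, hc]
        have h2 : (a : A) * f ⟨τ, mem_centralizer_singleton_iff.2 hτz⟩ =
            f ⟨τ, mem_centralizer_singleton_iff.2 hτz⟩ * (a : A) := mem_centralizer_singleton_iff.1 a.2
        rw [h2, mul_inv_cancel_right, mul_inv_cancel]
      have h5 : ((c : D) * τ * (c : D)⁻¹) * ((c : D) * τ * (c : D)⁻¹) = 1 := by
        calc (c : D) * τ * (c : D)⁻¹ * ((c : D) * τ * (c : D)⁻¹) = (c : D) * (τ * τ) * (c : D)⁻¹ := by group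
          _ = 1 := by rw [hτ]; group
      have h6 : ∀ i : ℤ, ∀ w : D, w * w = 1 → x ^ i * w * (x ^ i * w) = 1 → x ^ i = 1 := by
        intro i w hw h7
        apply h.sq_one hp2
        calc x ^ i * x ^ i = x ^ i * x ^ i * (w * w) := by rw [hw, mul_one]
          _ = x ^ i * (x ^ i * w) * w := by group
          _ = x ^ i * (w * x ^ i) * w := by rw [h.xzc i w]
          _ = x ^ i * w * (x ^ i * w) := by group
          _ = 1 := h7
      obtain ⟨i, hi | hi⟩ := h.ker _ h1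
      · exfalso
        have h3 : (c : D) * τ * (c : D)⁻¹ * τ⁻¹ = x ^ i := hi
        have h4 : (c : D) * τ * (c : D)⁻¹ = x ^ i * τ := by rw [← h3]; group
        rw [h4] at h5
        rw [h6 i τ hτ h5, one_mul, mul_inv_eq_iff_eq_mul] at h4
        exact ha (mem_subgroupOf.2 ⟨⟨⟨c, memF.2 h4⟩, mem_centralizer_singleton_iff.2 (Subtype.ext hcz)⟩, hc⟩)
      · have h3 : (c : D) * τ * (c : D)⁻¹ * τ⁻¹ = x ^ i * z := hi
        have h4 : (c : D) * τ * (c : D)⁻¹ = x ^ i * (z * τ) := by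
          calc (c : D) * τ * (c : D)⁻¹ = (c : D) * τ * (c : D)⁻¹ * τ⁻¹ * τ := by group
            _ = _ := by rw [h3, mul_assoc]
        have hzt : z * τ * (z * τ) = 1 := by
          calc z * τ * (z * τ) = z * (τ * z) * τ := by group
            _ = z * (z * τ) * τ := by rw [hτz]
            _ = (z * z) * (τ * τ) := by group
            _ = 1 := by rw [h.zz, hτ, one_mul]
        rw [h4] at h5
        rw [h4, h6 i (z * τ) hzt h5, one_mul, hτz]
    refine card_dvd_two _ fun a b ha hb => ?_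
    obtain ⟨c, hc, hcτ⟩ := key a ha
    obtain ⟨d, hd, hdτ⟩ := key b hb
    have hcz : (c : D) * z = z * c := mem_centralizer_singleton_iff.1 c.2
    have hdz : (d : D) * z = z * d := mem_centralizer_singleton_iff.1 d.2
    have h1 : (c : D) * d * τ * ((c : D) * d)⁻¹ = τ := by
      calc (c : D) * d * τ * ((c : D) * d)⁻¹ = c * (d * τ * (d : D)⁻¹) * (c : D)⁻¹ := by group
        _ = c * τ * (z * (c : D)⁻¹) := by rw [hdτ]; group
        _ = c * τ * ((c : D)⁻¹ * (c * z) * (c : D)⁻¹) := by group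
        _ = c * τ * ((c : D)⁻¹ * (z * c) * (c : D)⁻¹) := by rw [hcz]
        _ = (c * τ * (c : D)⁻¹) * z := by group
        _ = τ * (z * z) := by rw [hcτ]; group
        _ = τ := by rw [h.zz, mul_one]
    refine mem_subgroupOf.2 ⟨⟨⟨(c : D) * d, memF.2 (mul_inv_eq_iff_eq_mul.1 h1)⟩, mem_centralizer_singleton_iff.2
      (Subtype.ext ?_)⟩, ?_⟩
    · show (c : D) * d * z = z * (c * d)
      rw [mul_assoc, hdz, ← mul_assoc, hcz, mul_assoc]
    · show f (c * d) = (a : A) * b
      rw [map_mul, hc, hd]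

/-- **The centralizer of `τ`**, `p = 3`. -/
theorem card_cent [IsSimpleGroup A] (hAc : ¬ Group.IsSolvable A) (h : Rad 3 z x N f) {τ : D} (hτ : τ * τ = 1)
    (hτz : τ * z = z * τ) :
    ∃ m : ℕ, Nat.card ↥(centralizer ({τ} : Set D)) = Nat.card ↥(N ⊓ centralizer ({τ} : Set D) : Subgroup D) * (2 * m) ∧
      m ∣ Nat.card ↥(centralizer ({f ⟨τ, mem_centralizer_singleton_iff.2 hτz⟩} : Set A)) ∧
      Nat.card ↥(centralizer ({f ⟨τ, mem_centralizer_singleton_iff.2 hτz⟩} : Set A)) ∣ 2 * m :=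
  haveI : Fact (Nat.Prime 3) := ⟨Nat.prime_three⟩
  card_cent_p (by norm_num) hAc h hτ hτz

end

end Cfsg.Agent.H844.Ore.BAbs
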